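import Mathlib
import Cfsg.Prelude
import Cfsg.Agent.Lib.Helper9.APSU29
import Cfsg.Agent.Lib.Helper5.PslGraph.Cent
import Cfsg.Agent.Lib.Helper5.PslGraph.SumSqType

/-! The centraliser of the `q`-power field automorphism (a graph automorphism) in the
inner-diagonal group of `PSU_n(q)`, `q` odd: the projective conformal orthogonal group of the sum
of squares over the field with `q` elements. -/

set_option autoImplicit false
open Cfsg

namespace Cfsg.Agent.Lib.Helper5.PsuGraph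

open Matrix

open Cfsg.Agent.Lib.Helper9.APSL (sG sG_coe sG_one sG_mul uA uA_coe uA_one uA_mul nrm
  nrm_apply nrm_two sG_scalar exists_field_h90 norm_surjective ct ct_apply mem_GU_iff glmap_coe
  sG_glmap exists_glmap_eq scalar_eq_one hinj_two glmap_mem_center_iff sG_pow_of_scalar
  mem_cent_single orderOf_involution)

open Cfsg.Agent.Lib.Helper5.PslGraph

section gl

variable {F : Type*} [Field F] {n : ℕ} {F₀ : Type*} [Field F₀]

local notation "Mn" => Matrix (Fin n) (Fin n) F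
local notation "M₀" => Matrix (Fin n) (Fin n) F₀
local notation "GLn" => GL (Fin n) F
local notation "scl" => Matrix.GeneralLinearGroup.scalar (Fin n)

/-- `(ν, g₀) ↦ ν • ι(g₀)` -/
noncomputable def pairHom (ι : F₀ →+* F) : Fˣ × GL (Fin n) F₀ →* GLn where
  toFun x := scl x.1 * Matrix.GeneralLinearGroup.map ι x.2
  map_one' := by simp
  map_mul' x y := by
    rw [Prod.fst_mul, Prod.snd_mul, map_mul, map_mul, mul_assoc, mul_assoc]
    congr 1
    rw [← mul_assoc, ← mul_assoc]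
    congr 1
    exact Matrix.GeneralLinearGroup.scalar_commute _ _

theorem pairHom_apply (ι : F₀ →+* F) (x : Fˣ × GL (Fin n) F₀) :
    pairHom ι x = scl x.1 * Matrix.GeneralLinearGroup.map ι x.2 := rfl

theorem pairHom_coe (ι : F₀ →+* F) (x : Fˣ × GL (Fin n) F₀) :
    ((pairHom ι x : GLn) : Mn) = (x.1 : F) • (x.2 : M₀).map ι := by
  rw [pairHom_apply, Units.val_mul, Matrix.GeneralLinearGroup.coe_scalar, glmap_coe,
    Matrix.scalar_apply, ← Matrix.smul_eq_diagonal_mul]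

theorem mul_comm_of_smul_one {K : Type*} [Field K] (g : GL (Fin n) K)
    (B : Matrix (Fin n) (Fin n) K) (c : K)
    (h : (g : Matrix (Fin n) (Fin n) K) * B = c • 1) :
    B * (g : Matrix (Fin n) (Fin n) K) = c • 1 := by
  have h1 : B = c • ((g⁻¹ : GL (Fin n) K) : Matrix (Fin n) (Fin n) K) := by
    calc B = ((g⁻¹ : GL (Fin n) K) : Matrix (Fin n) (Fin n) K)
          * ((g : Matrix (Fin n) (Fin n) K) * B) := by
          rw [← Matrix.mul_assoc, ← Units.val_mul, inv_mul_cancel, Units.val_one, Matrix.one_mul]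
      _ = _ := by rw [h, Matrix.mul_smul, Matrix.mul_one]
  rw [h1, Matrix.smul_mul, ← Units.val_mul, inv_mul_cancel, Units.val_one]

theorem mul_comm_of_smul_one' {K : Type*} [Field K] (g : GL (Fin n) K)
    (B : Matrix (Fin n) (Fin n) K) (c : K)
    (h : B * (g : Matrix (Fin n) (Fin n) K) = c • 1) :
    (g : Matrix (Fin n) (Fin n) K) * B = c • 1 := by
  have h1 : B = c • ((g⁻¹ : GL (Fin n) K) : Matrix (Fin n) (Fin n) K) := by
    calc B = (B * (g : Matrix (Fin n) (Fin n) K))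
          * ((g⁻¹ : GL (Fin n) K) : Matrix (Fin n) (Fin n) K) := by
          rw [Matrix.mul_assoc, ← Units.val_mul, mul_inv_cancel, Units.val_one, Matrix.mul_one]
      _ = _ := by rw [h, Matrix.smul_mul, Matrix.one_mul]
  rw [h1, Matrix.mul_smul, ← Units.val_mul, mul_inv_cancel, Units.val_one]

theorem pairHom_mem_GU_iff (ι : F₀ →+* F) (τ : RingAut F) (q : ℕ) (hq : ∀ x : F, τ x = x ^ q)
    (hι : ∀ b, τ (ι b) = ι b) (x : Fˣ × GL (Fin n) F₀) :
    pairHom ι x ∈ Cfsg.GU n F q ↔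
      ((x.1 : F) * τ x.1) • ((x.2 : M₀) * (x.2 : M₀)ᵀ).map ι = 1 := by
  rw [mem_GU_iff τ q hq, pairHom_coe]
  have h1 : ct τ ((x.1 : F) • (x.2 : M₀).map ι) = τ x.1 • ((x.2 : M₀)ᵀ).map ι := by
    ext i j
    simp [ct_apply, hι]
  rw [h1, Matrix.smul_mul, Matrix.mul_smul, smul_smul, Matrix.map_mul]

theorem snd_mem_sim (ι : F₀ →+* F) (τ : RingAut F) (q : ℕ) (hq : ∀ x : F, τ x = x ^ q)
    (hι : ∀ b, τ (ι b) = ι b) (hn : 2 ≤ n) (h2 : (2 : F₀) ≠ 0) (x : Fˣ × GL (Fin n) F₀)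
    (hx : pairHom ι x ∈ Cfsg.GU n F q) :
    x.2 ∈ Geo.quadSimilarityGroup (F := F₀) (sumSq (F := F₀) (Fin n)) := by
  rw [mem_sim_sumSq_iff hn h2]
  rw [pairHom_mem_GU_iff ι τ q hq hι] at hx
  obtain ⟨N, hN⟩ : ∃ N : F, N = (x.1 : F) * τ x.1 := ⟨_, rfl⟩
  rw [← hN] at hx
  obtain ⟨A, hA⟩ : ∃ A : M₀, A = (x.2 : M₀) * (x.2 : M₀)ᵀ := ⟨_, rfl⟩
  rw [← hA] at hx
  have hent : ∀ i j, N * ι (A i j) = (1 : Mn) i j := by
    intro i j
    have := congrFun (congrFun hx i) j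
    rwa [Matrix.smul_apply, Matrix.map_apply, smul_eq_mul] at this
  have h00 : N * ι (A ⟨0, by omega⟩ ⟨0, by omega⟩) = 1 := by
    rw [hent, Matrix.one_apply_eq]
  have hN0 : N ≠ 0 := by
    rintro rfl
    rw [zero_mul] at h00
    exact zero_ne_one h00
  refine ⟨A ⟨0, by omega⟩ ⟨0, by omega⟩, ?_⟩
  apply mul_comm_of_smul_one
  rw [← hA]
  ext i j
  apply ι.injective
  apply mul_left_cancel₀ hN0
  rw [hent, Matrix.smul_apply, smul_eq_mul, map_mul, ← mul_assoc, h00, one_mul,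
    Matrix.one_apply, Matrix.one_apply]
  split_ifs <;> simp

theorem exists_pair_of_sim [Finite F] (ι : F₀ →+* F) (τ : RingAut F) (q : ℕ)
    (hq : ∀ x : F, τ x = x ^ q) (hι : ∀ b, τ (ι b) = ι b) (hτ2 : τ * τ = 1) (hτ1 : τ ≠ 1)
    (hn : 2 ≤ n) (h2 : (2 : F₀) ≠ 0) (g₀ : GL (Fin n) F₀)
    (hg₀ : g₀ ∈ Geo.quadSimilarityGroup (F := F₀) (sumSq (F := F₀) (Fin n))) :
    ∃ ν : Fˣ, pairHom ι (ν, g₀) ∈ Cfsg.GU n F q := by
  rw [mem_sim_sumSq_iff hn h2] at hg₀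
  obtain ⟨c, hc⟩ := hg₀
  have hc' : (g₀ : M₀) * (g₀ : M₀)ᵀ = c • 1 := mul_comm_of_smul_one' g₀ _ c hc
  have hc0 : c ≠ 0 := by
    rintro rfl
    rw [zero_smul] at hc
    have : Nonempty (Fin n) := ⟨⟨0, by omega⟩⟩
    have := congrArg Matrix.det hc
    rw [Matrix.det_mul, Matrix.det_transpose, Matrix.det_zero] at this
    have hdet : (g₀ : M₀).det ≠ 0 := Matrix.GeneralLinearGroup.det_ne_zero g₀
    exact hdet (mul_self_eq_zero.1 this)
  have hιc0 : ι c ≠ 0 := by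
    rw [Ne, map_eq_zero]
    exact hc0
  obtain ⟨lam, hlam⟩ : ∃ lam : Fˣ, (lam : F) = (ι c)⁻¹ := ⟨Units.mk0 (ι c)⁻¹ (inv_ne_zero hιc0), rfl⟩
  have hfix : uA τ lam = lam := by
    apply Units.ext
    rw [uA_coe, hlam, map_inv₀, hι]
  have hτ2' : τ ^ 2 = 1 := by rw [pow_two, hτ2]
  obtain ⟨μ, hμ⟩ := norm_surjective τ 2 (by norm_num) (hinj_two τ hτ1) hτ2' lam hfix
  rw [nrm_two] at hμ
  refine ⟨μ, ?_⟩
  rw [pairHom_mem_GU_iff ι τ q hq hι]
  show ((μ : F) * τ μ) • ((g₀ : M₀) * (g₀ : M₀)ᵀ).map ι = 1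
  have h3 : (μ : F) * τ μ = (ι c)⁻¹ := by
    rw [← hlam, ← hμ, Units.val_mul, uA_coe]
  rw [h3, hc']
  ext i j
  rw [Matrix.smul_apply, Matrix.map_apply, Matrix.smul_apply, smul_eq_mul, smul_eq_mul, map_mul,
    ← mul_assoc, inv_mul_cancel₀ hιc0, one_mul, Matrix.one_apply, Matrix.one_apply]
  split_ifs <;> simp

theorem sG_pairHom (ι : F₀ →+* F) (τ : RingAut F) (hι : ∀ b, τ (ι b) = ι b)
    (x : Fˣ × GL (Fin n) F₀) :
    sG τ (pairHom ι x) = scl (uA τ x.1 / x.1) * pairHom ι x := by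
  rw [pairHom_apply, map_mul, sG_scalar, sG_glmap τ ι hι, ← mul_assoc, ← map_mul,
    div_mul_cancel]

theorem exists_pair_of_twisted (ι : F₀ →+* F) (τ : RingAut F)
    (hι : ∀ a : F, τ a = a ↔ a ∈ Set.range ι) (hτ2 : τ * τ = 1) (hτ1 : τ ≠ 1) (hn : 0 < n)
    (g : GLn) (lam : Fˣ) (h : sG τ g = scl lam * g) :
    ∃ x : Fˣ × GL (Fin n) F₀, pairHom ι x = g := by
  have hτ2' : τ ^ 2 = 1 := by rw [pow_two, hτ2]
  have h4 := sG_pow_of_scalar τ g lam h 2
  rw [hτ2', sG_one] at h4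
  have h5 : (scl (nrm τ 2 lam) : GLn) = 1 := by
    have : (scl (nrm τ 2 lam) : GLn) * g = 1 * g := by
      rw [one_mul]
      exact h4.symm
    exact mul_right_cancel this
  have h6 := scalar_eq_one hn h5
  obtain ⟨ν, hν⟩ := exists_field_h90 τ 2 (by norm_num) (hinj_two τ hτ1) hτ2' lam h6
  have hfix : sG τ (scl ν * g) = scl ν * g := by
    rw [map_mul, sG_scalar, h, ← mul_assoc, ← map_mul, mul_comm (uA τ ν), hν]
  obtain ⟨g₀, hg₀⟩ := exists_glmap_eq τ ι hι (scl ν * g) hfix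
  refine ⟨(ν⁻¹, g₀), ?_⟩
  rw [pairHom_apply]
  show scl ν⁻¹ * Matrix.GeneralLinearGroup.map ι g₀ = g
  rw [hg₀, ← mul_assoc, ← map_mul, inv_mul_cancel, map_one, one_mul]

end gl

section gu

open Cfsg.Agent.Lib.Helper9.APSU

variable {F : Type*} [Field F] [Fintype F] {q : ℕ} (hF : Fintype.card F = q ^ 2) (n : ℕ)
  {F₀ : Type*} [Field F₀]

set_option quotPrecheck false
local notation "Mn" => Matrix (Fin n) (Fin n) F
local notation "M₀" => Matrix (Fin n) (Fin n) F₀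
local notation "GLn" => GL (Fin n) F
local notation "GUn" => ↥(Cfsg.GU n F q)
local notation "PSUn" => Cfsg.PSU n F q
local notation "scl" => Matrix.GeneralLinearGroup.scalar (Fin n)

include hF in
/-- an inner-diagonal automorphism commutes with the `q`-power field automorphism iff it comes
from a unitary matrix that is a scalar multiple of a matrix over the fixed field -/
theorem cent_fU_tau_iff (hn : 3 ≤ n) (τ : RingAut F) (hτq : ∀ x : F, τ x = x ^ q)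
    (hτ2 : τ * τ = 1) (hτ1 : τ ≠ 1) (ι : F₀ →+* F) (hι : ∀ a : F, τ a = a ↔ a ∈ Set.range ι)
    (β : MulAut PSUn) :
    β ∈ (cU (F := F) (q := q) n).range ⊓ Subgroup.centralizer {fU n τ}
      ↔ ∃ x : Fˣ × GL (Fin n) F₀, ∃ hx : pairHom ι x ∈ Cfsg.GU n F q,
          β = cU n ⟨pairHom ι x, hx⟩ := by
  have hn0 : 0 < n := by omega
  have hι' : ∀ b, τ (ι b) = ι b := fun b => (hι _).mpr ⟨b, rfl⟩
  rw [Subgroup.mem_inf, mem_cent_single]
  constructor
  · rintro ⟨⟨g, rfl⟩, hcomm⟩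
    rw [fU_mul_cU] at hcomm
    have h1 : cU n (fieldGU n τ g) = cU n g := mul_right_cancel hcomm
    have h2 : fieldGU n τ g * g⁻¹ ∈ (cU (F := F) (q := q) n).ker := by
      rw [MonoidHom.mem_ker, map_mul, map_inv, h1, mul_inv_cancel]
    obtain ⟨lam, hlam⟩ := exists_scalar_of_mem_ker hF n hn h2
    have hlam' : sG τ (g : GLn) * (g : GLn)⁻¹ = scl lam := hlam
    have h3 : sG τ (g : GLn) = scl lam * g := by rw [← hlam', inv_mul_cancel_right]
    obtain ⟨x, hx⟩ := exists_pair_of_twisted ι τ hι hτ2 hτ1 hn0 (g : GLn) lam h3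
    refine ⟨x, by rw [hx]; exact g.2, ?_⟩
    congr 1
    exact Subtype.ext hx.symm
  · rintro ⟨x, hx, rfl⟩
    refine ⟨⟨_, rfl⟩, ?_⟩
    rw [fU_mul_cU]
    congr 1
    have hu : (uA τ x.1 / x.1) * uA τ (uA τ x.1 / x.1) = 1 := by
      rw [map_div, ← uA_mul, hτ2, uA_one, div_mul_div_comm, mul_comm, div_self']
    obtain ⟨Z, hZ⟩ : ∃ Z : GUn, (Z : GLn) = scl (uA τ x.1 / x.1) :=
      ⟨⟨_, scl_mem_GU τ q hτq _ hu⟩, rfl⟩
    have h4 : fieldGU n τ ⟨pairHom ι x, hx⟩ = Z * ⟨pairHom ι x, hx⟩ := by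
      apply Subtype.ext
      rw [fieldGU_coe]
      show sG τ (pairHom ι x) = (Z : GLn) * pairHom ι x
      rw [hZ, sG_pairHom ι τ hι']
    rw [h4, map_mul, cU_of_scalar hF n hn Z _ hZ, one_mul]

include hF in
/-- **the centraliser of the `q`-power field automorphism in `Inndiag(PSU_n(q))`** -/
theorem exists_cent_fU_tau_equiv (hn : 3 ≤ n) (h2 : (2 : F₀) ≠ 0) (τ : RingAut F)
    (hτq : ∀ x : F, τ x = x ^ q) (hτ2 : τ * τ = 1) (hτ1 : τ ≠ 1) (ι : F₀ →+* F)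
    (hι : ∀ a : F, τ a = a ↔ a ∈ Set.range ι) :
    Nonempty (↥((cU (F := F) (q := q) n).range ⊓ Subgroup.centralizer {fU n τ})
      ≃* PGO F₀ (sumSq (F := F₀) (Fin n))) := by
  have hn0 : 0 < n := by omega
  have hn2 : 2 ≤ n := by omega
  have hι' : ∀ b, τ (ι b) = ι b := fun b => (hι _).mpr ⟨b, rfl⟩
  obtain ⟨Gt, hGt⟩ : ∃ Gt : Subgroup (Fˣ × GL (Fin n) F₀),
      Gt = (Cfsg.GU n F q).comap (pairHom ι) := ⟨_, rfl⟩
  have hmem : ∀ x, x ∈ Gt ↔ pairHom ι x ∈ Cfsg.GU n F q := by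
    intro x
    rw [hGt]
    rfl
  obtain ⟨M, hM⟩ : ∃ M : ↥Gt →* GUn,
      ∀ x, ((M x : GUn) : GLn) = pairHom ι (x : Fˣ × GL (Fin n) F₀) :=
    ⟨((pairHom ι).comp Gt.subtype).codRestrict _ (fun x => (hmem x.1).mp x.2), fun _ => rfl⟩
  obtain ⟨Ψ, hΨ⟩ : ∃ Ψ : ↥Gt →*
      ↥((cU (F := F) (q := q) n).range ⊓ Subgroup.centralizer {fU n τ}),
      ∀ x, (Ψ x : MulAut PSUn) = cU n (M x) :=
    ⟨((cU n).comp M).codRestrict _ (fun x =>
      (cent_fU_tau_iff hF n hn τ hτq hτ2 hτ1 ι hι _).mpr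
        ⟨x.1, (hmem x.1).mp x.2, congrArg (cU n) (Subtype.ext (hM x))⟩), fun _ => rfl⟩
  have hΨsurj : Function.Surjective Ψ := by
    intro β
    obtain ⟨x, hx, e⟩ := (cent_fU_tau_iff hF n hn τ hτq hτ2 hτ1 ι hι _).mp β.2
    refine ⟨⟨x, (hmem x).mpr hx⟩, ?_⟩
    apply Subtype.ext
    rw [hΨ, e]
    congr 1
    apply Subtype.ext
    rw [hM]
  obtain ⟨S, hS⟩ : ∃ S : ↥Gt →*
      ↥(Geo.quadSimilarityGroup (F := F₀) (sumSq (F := F₀) (Fin n))),
      ∀ x, ((S x : ↥(Geo.quadSimilarityGroup (F := F₀) (sumSq (F := F₀) (Fin n)))) :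
        GL (Fin n) F₀) = (x : Fˣ × GL (Fin n) F₀).2 :=
    ⟨((MonoidHom.snd _ _).comp Gt.subtype).codRestrict _ (fun x =>
      snd_mem_sim ι τ q hτq hι' hn2 h2 x.1 ((hmem x.1).mp x.2)), fun _ => rfl⟩
  obtain ⟨Φ, hΦ⟩ : ∃ Φ : ↥Gt →* PGO F₀ (sumSq (F := F₀) (Fin n)),
      Φ = (QuotientGroup.mk' _).comp S := ⟨_, rfl⟩
  have hΦsurj : Function.Surjective Φ := by
    intro y
    obtain ⟨g₀, rfl⟩ := QuotientGroup.mk_surjective y
    obtain ⟨ν, hν⟩ := exists_pair_of_sim ι τ q hτq hι' hτ2 hτ1 hn2 h2 g₀.1 g₀.2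
    refine ⟨⟨(ν, g₀.1), (hmem _).mpr hν⟩, ?_⟩
    rw [hΦ]
    show QuotientGroup.mk _ = QuotientGroup.mk _
    congr 1
    apply Subtype.ext
    rw [hS]
  have hker : Ψ.ker = Φ.ker := by
    ext x
    rw [MonoidHom.mem_ker, MonoidHom.mem_ker]
    have h1 : Ψ x = 1 ↔ (x : Fˣ × GL (Fin n) F₀).2 ∈ Subgroup.center (GL (Fin n) F₀) := by
      rw [← glmap_mem_center_iff hn0 ι, Matrix.GeneralLinearGroup.center_eq_range_scalar]
      constructor
      · intro h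
        have h3 : cU n (M x) = 1 := by
          rw [← hΨ, h]
          rfl
        obtain ⟨u, hu⟩ := exists_scalar_of_mem_ker hF n hn (MonoidHom.mem_ker.mpr h3)
        rw [hM, pairHom_apply] at hu
        refine ⟨u / (x : Fˣ × GL (Fin n) F₀).1, ?_⟩
        rw [map_div, div_eq_mul_inv, ← hu, Matrix.GeneralLinearGroup.scalar_commute,
          mul_inv_cancel_right]
      · rintro ⟨u, hu⟩
        apply Subtype.ext
        rw [hΨ]
        exact cU_of_scalar hF n hn (M x) ((x : Fˣ × GL (Fin n) F₀).1 * u)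
          (by rw [hM, pairHom_apply, map_mul, hu])
    have h2' : Φ x = 1 ↔ (x : Fˣ × GL (Fin n) F₀).2 ∈ Subgroup.center (GL (Fin n) F₀) := by
      rw [hΦ, MonoidHom.comp_apply, QuotientGroup.mk'_apply, QuotientGroup.eq_one_iff,
        Subgroup.mem_subgroupOf, hS]
      have h5 : Cfsg.Geo.scalars (Fin n) F₀ = Subgroup.center (GL (Fin n) F₀) := by
        rw [Matrix.GeneralLinearGroup.center_eq_range_scalar]
        rfl
      rw [h5]
    rw [h1, h2']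
  exact ⟨(QuotientGroup.quotientKerEquivOfSurjective Ψ hΨsurj).symm.trans
    ((QuotientGroup.quotientMulEquivOfEq hker).trans
      (QuotientGroup.quotientKerEquivOfSurjective Φ hΦsurj))⟩

end gu

end Cfsg.Agent.Lib.Helper5.PsuGraph
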