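import Mathlib
import Cfsg.Prelude
import Cfsg.Agent.Lib.Helper5.PsuGraph.UCent
import Cfsg.Agent.Lib.Helper5.PslGraph.GraphAut

/-! Transfer of involutory graph automorphisms from `PSU_n(q)` to `PSL_n(q)`, part 1: the
conjugated pair homomorphism `(ν, g₀) ↦ P (ν ι(g₀)) P⁻¹` and the unitary group. -/

set_option autoImplicit false
open Cfsg

namespace Cfsg.Agent.Lib.Helper5.PsuGraph

open Matrix

open Cfsg.Agent.Lib.Helper9.APSL (sG sG_coe sG_one sG_mul uA uA_coe uA_one uA_mul nrm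
  nrm_apply nrm_two sG_scalar exists_field_h90 norm_surjective ct ct_apply ct_mul ct_smul ct_ct
  ct_one mem_GU_iff glmap_coe
  sG_glmap exists_glmap_eq scalar_eq_one hinj_two glmap_mem_center_iff sG_pow_of_scalar
  mem_cent_single orderOf_involution)

open Cfsg.Agent.Lib.Helper9.APSU (thG thG_apply thG_inv_coe mem_GU_iff_thG)

open Cfsg.Agent.Lib.Helper5.PslGraph

section grp

theorem conj_eq_conj_iff {G : Type*} [Group G] (a b c d : G) :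
    a * b * a⁻¹ = c * d * c⁻¹ ↔ b⁻¹ * (a⁻¹ * c) * d = a⁻¹ * c := by
  constructor
  · intro h
    have hb : b = a⁻¹ * (c * d * c⁻¹) * a := by
      rw [← h]
      group
    rw [hb]
    group
  · intro h
    have hd : d = (b⁻¹ * (a⁻¹ * c))⁻¹ * (a⁻¹ * c) := by
      calc d = (b⁻¹ * (a⁻¹ * c))⁻¹ * (b⁻¹ * (a⁻¹ * c) * d) := by group
        _ = _ := by rw [h]
    rw [hd]
    group

end grp

section glP

variable {F : Type*} [Field F] {n : ℕ} {F₀ : Type*} [Field F₀]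

local notation "Mn" => Matrix (Fin n) (Fin n) F
local notation "M₀" => Matrix (Fin n) (Fin n) F₀
local notation "GLn" => GL (Fin n) F
local notation "scl" => Matrix.GeneralLinearGroup.scalar (Fin n)

/-- `(ν, g₀) ↦ P (ν • ι(g₀)) P⁻¹` -/
noncomputable def pairHomP (ι : F₀ →+* F) (P : GLn) : Fˣ × GL (Fin n) F₀ →* GLn :=
  (MulAut.conj P).toMonoidHom.comp (pairHom ι)

theorem pairHomP_apply (ι : F₀ →+* F) (P : GLn) (x : Fˣ × GL (Fin n) F₀) :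
    pairHomP ι P x = P * pairHom ι x * P⁻¹ := rfl

/-- a conjugate `P y P⁻¹` is unitary iff `y` preserves the Hermitian matrix `P^* P` -/
theorem conj_mem_GU_iff (τ : RingAut F) (q : ℕ) (hq : ∀ x : F, τ x = x ^ q) (P y : GLn) :
    P * y * P⁻¹ ∈ Cfsg.GU n F q ↔
      ct τ (y : Mn) * (ct τ (P : Mn) * (P : Mn)) * (y : Mn) = ct τ (P : Mn) * (P : Mn) := by
  rw [mem_GU_iff_thG τ q hq, map_mul, map_mul, map_inv, conj_eq_conj_iff, Units.ext_iff,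
    Units.val_mul, Units.val_mul, Units.val_mul, thG_inv_coe, thG_inv_coe]

theorem ct_pair (ι : F₀ →+* F) (τ : RingAut F) (hι : ∀ b, τ (ι b) = ι b)
    (x : Fˣ × GL (Fin n) F₀) :
    ct τ ((x.1 : F) • (x.2 : M₀).map ι) = τ x.1 • ((x.2 : M₀)ᵀ).map ι := by
  ext i j
  simp [ct_apply, hι]

theorem pairHomP_mem_GU_iff (ι : F₀ →+* F) (τ : RingAut F) (q : ℕ) (hq : ∀ x : F, τ x = x ^ q)
    (hι : ∀ b, τ (ι b) = ι b) (P : GLn) (κ : Fˣ) (S₀ : GL (Fin n) F₀)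
    (hPS : ct τ (P : Mn) * (P : Mn) = (κ : F) • (S₀ : M₀).map ι) (x : Fˣ × GL (Fin n) F₀) :
    pairHomP ι P x ∈ Cfsg.GU n F q ↔
      ((x.1 : F) * τ x.1) • ((x.2 : M₀)ᵀ * (S₀ : M₀) * (x.2 : M₀)).map ι = (S₀ : M₀).map ι := by
  rw [pairHomP_apply, conj_mem_GU_iff τ q hq, hPS, pairHom_coe, ct_pair ι τ hι]
  have h1 : τ (x.1 : F) • ((x.2 : M₀)ᵀ).map ι * ((κ : F) • (S₀ : M₀).map ι) *
      ((x.1 : F) • (x.2 : M₀).map ι) =
      (κ : F) • (((x.1 : F) * τ x.1) • ((x.2 : M₀)ᵀ * (S₀ : M₀) * (x.2 : M₀)).map ι) := by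
    rw [Matrix.map_mul, Matrix.map_mul]
    simp only [Matrix.smul_mul, Matrix.mul_smul, smul_smul]
    congr 1
    ring
  rw [h1]
  constructor
  · intro h
    exact smul_right_injective _ κ.ne_zero h
  · intro h
    rw [h]

theorem exists_entry_ne_zero {K : Type*} [Field K] (hn : 0 < n) (S : GL (Fin n) K) :
    ∃ i j, (S : Matrix (Fin n) (Fin n) K) i j ≠ 0 := by
  by_contra hcon
  push Not at hcon
  have h0 : (S : Matrix (Fin n) (Fin n) K) = 0 := by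
    ext i j
    exact hcon i j
  have hdet : (S : Matrix (Fin n) (Fin n) K).det ≠ 0 := Matrix.GeneralLinearGroup.det_ne_zero S
  have : Nonempty (Fin n) := ⟨⟨0, hn⟩⟩
  rw [h0, Matrix.det_zero] at hdet
  exact hdet rfl

theorem snd_mem_simP (ι : F₀ →+* F) (τ : RingAut F) (q : ℕ) (hq : ∀ x : F, τ x = x ^ q)
    (hι : ∀ b, τ (ι b) = ι b) (hn : 0 < n) (P : GLn) (κ : Fˣ) (S₀ : GL (Fin n) F₀)
    (hPS : ct τ (P : Mn) * (P : Mn) = (κ : F) • (S₀ : M₀).map ι) (x : Fˣ × GL (Fin n) F₀)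
    (hx : pairHomP ι P x ∈ Cfsg.GU n F q) :
    x.2 ∈ Geo.similarityGroup (F := F₀) (bf (S₀ : M₀)) := by
  rw [mem_similarityGroup_bf_iff hn S₀ x.2]
  rw [pairHomP_mem_GU_iff ι τ q hq hι P κ S₀ hPS] at hx
  obtain ⟨N, hN⟩ : ∃ N : F, N = (x.1 : F) * τ x.1 := ⟨_, rfl⟩
  rw [← hN] at hx
  obtain ⟨A, hA⟩ : ∃ A : M₀, A = (x.2 : M₀)ᵀ * (S₀ : M₀) * (x.2 : M₀) := ⟨_, rfl⟩
  rw [← hA] at hx ⊢
  have hent : ∀ i j, N * ι (A i j) = ι ((S₀ : M₀) i j) := by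
    intro i j
    have := congrFun (congrFun hx i) j
    rwa [Matrix.smul_apply, Matrix.map_apply, smul_eq_mul, Matrix.map_apply] at this
  obtain ⟨i, j, hij⟩ := exists_entry_ne_zero hn S₀
  have hιij : ι ((S₀ : M₀) i j) ≠ 0 := by
    rw [Ne, map_eq_zero]
    exact hij
  have hN0 : N ≠ 0 := by
    rintro rfl
    have := hent i j
    rw [zero_mul] at this
    exact hιij this.symm
  have hA0 : A i j ≠ 0 := by
    intro h
    have := hent i j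
    rw [h, map_zero, mul_zero] at this
    exact hιij this.symm
  have hιA0 : ι (A i j) ≠ 0 := by
    rw [Ne, map_eq_zero]
    exact hA0
  have hNeq : N = ι ((S₀ : M₀) i j / A i j) := by
    rw [map_div₀, eq_div_iff hιA0]
    exact hent i j
  refine ⟨A i j / (S₀ : M₀) i j, ?_⟩
  ext k l
  apply ι.injective
  have h3 := hent k l
  rw [hNeq, ← map_mul] at h3
  have h4 := ι.injective h3
  rw [Matrix.smul_apply, smul_eq_mul, ← h4]
  congr 1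
  field_simp

theorem exists_pair_of_simP [Finite F] (ι : F₀ →+* F) (τ : RingAut F) (q : ℕ)
    (hq : ∀ x : F, τ x = x ^ q) (hι : ∀ b, τ (ι b) = ι b) (hτ2 : τ * τ = 1) (hτ1 : τ ≠ 1)
    (hn : 0 < n) (P : GLn) (κ : Fˣ) (S₀ : GL (Fin n) F₀)
    (hPS : ct τ (P : Mn) * (P : Mn) = (κ : F) • (S₀ : M₀).map ι) (g₀ : GL (Fin n) F₀)
    (hg₀ : g₀ ∈ Geo.similarityGroup (F := F₀) (bf (S₀ : M₀))) :
    ∃ ν : Fˣ, pairHomP ι P (ν, g₀) ∈ Cfsg.GU n F q := by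
  rw [mem_similarityGroup_bf_iff hn S₀ g₀] at hg₀
  obtain ⟨c, hc⟩ := hg₀
  have hc0 : c ≠ 0 := by
    rintro rfl
    rw [zero_smul] at hc
    have : Nonempty (Fin n) := ⟨⟨0, hn⟩⟩
    have := congrArg Matrix.det hc
    rw [Matrix.det_mul, Matrix.det_mul, Matrix.det_transpose, Matrix.det_zero] at this
    have hdet : (g₀ : M₀).det ≠ 0 := Matrix.GeneralLinearGroup.det_ne_zero g₀
    have hdetS : (S₀ : M₀).det ≠ 0 := Matrix.GeneralLinearGroup.det_ne_zero S₀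
    exact mul_ne_zero (mul_ne_zero hdet hdetS) hdet this
  have hιc0 : ι c ≠ 0 := by
    rw [Ne, map_eq_zero]
    exact hc0
  obtain ⟨lam, hlam⟩ : ∃ lam : Fˣ, (lam : F) = (ι c)⁻¹ := ⟨Units.mk0 (ι c)⁻¹ (inv_ne_zero hιc0), rfl⟩
  have hfix : uA τ lam = lam := by
    apply Units.ext
    rw [uA_coe, hlam, map_inv₀, hι]
  have hτ2' : τ ^ 2 = 1 := by rw [pow_two, hτ2]
  obtain ⟨μ, hμ⟩ := norm_surjective τ 2 (by norm_num) (hinj_two τ hτ1) hτ2' lam hfix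
  rw [nrm_two] at hμ
  refine ⟨μ, ?_⟩
  rw [pairHomP_mem_GU_iff ι τ q hq hι P κ S₀ hPS]
  show ((μ : F) * τ μ) • ((g₀ : M₀)ᵀ * (S₀ : M₀) * (g₀ : M₀)).map ι = (S₀ : M₀).map ι
  have h3 : (μ : F) * τ μ = (ι c)⁻¹ := by
    rw [← hlam, ← hμ, Units.val_mul, uA_coe]
  rw [h3, hc]
  ext i j
  rw [Matrix.smul_apply, Matrix.map_apply, Matrix.smul_apply, smul_eq_mul, smul_eq_mul, map_mul,
    ← mul_assoc, inv_mul_cancel₀ hιc0, one_mul, Matrix.map_apply]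

theorem exists_pair_of_twistedP (ι : F₀ →+* F) (τ : RingAut F)
    (hι : ∀ a : F, τ a = a ↔ a ∈ Set.range ι) (hτ2 : τ * τ = 1) (hτ1 : τ ≠ 1) (hn : 0 < n)
    (P h : GLn) (lam : Fˣ) (hh : sG τ (P⁻¹ * h * P) = scl lam * (P⁻¹ * h * P)) :
    ∃ x : Fˣ × GL (Fin n) F₀, pairHomP ι P x = h := by
  obtain ⟨x, hx⟩ := exists_pair_of_twisted ι τ hι hτ2 hτ1 hn (P⁻¹ * h * P) lam hh
  refine ⟨x, ?_⟩
  rw [pairHomP_apply, hx]
  group

end glP

end Cfsg.Agent.Lib.Helper5.PsuGraph
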