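import Mathlib
import Cfsg.Prelude
import Cfsg.Agent.Lib.Helper5.PsuGraph.Transfer1

/-! Transfer of involutory graph automorphisms from `PSU_n(q)` to `PSL_n(q)`, part 2: the
centralizer in the inner-diagonal group. -/

set_option autoImplicit false
open Cfsg

namespace Cfsg.Agent.Lib.Helper5.PsuGraph

open Matrix

open Cfsg.Agent.Lib.Helper9.APSL (sG sG_coe sG_one sG_mul uA uA_coe uA_one uA_mul nrm
  nrm_apply nrm_two sG_scalar exists_field_h90 norm_surjective ct ct_apply ct_mul ct_smul ct_ct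
  ct_one mem_GU_iff glmap_coe
  sG_glmap exists_glmap_eq scalar_eq_one hinj_two glmap_mem_center_iff sG_pow_of_scalar
  mem_cent_single orderOf_involution)

open Cfsg.Agent.Lib.Helper9.APSU (thG thG_apply thG_inv_coe mem_GU_iff_thG sc_comm)

open Cfsg.Agent.Lib.Helper5.PslGraph

section glP2

variable {F : Type*} [Field F] {n : ℕ} {F₀ : Type*} [Field F₀]

local notation "Mn" => Matrix (Fin n) (Fin n) F
local notation "M₀" => Matrix (Fin n) (Fin n) F₀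
local notation "GLn" => GL (Fin n) F
local notation "scl" => Matrix.GeneralLinearGroup.scalar (Fin n)

theorem conj_central {G : Type*} [Group G] (Z x : G) (hZ : ∀ y : G, y * Z = Z * y) :
    Z * x * Z⁻¹ = x := by
  rw [← hZ x, mul_inv_cancel_right]

/-- a commutation relation gives a twisted-fixed matrix -/
theorem twisted_of_comm (τ : RingAut F) (g P h : GLn) (ε lam : Fˣ)
    (hgP : scl ε * g * sG τ P = P) (hc : g * sG τ h * g⁻¹ = scl lam * h) :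
    sG τ (P⁻¹ * h * P) = scl lam * (P⁻¹ * h * P) := by
  obtain ⟨Y, hY⟩ : ∃ Y : GLn, Y = sG τ P := ⟨_, rfl⟩
  obtain ⟨Z, hZ⟩ : ∃ Z : GLn, Z = scl ε := ⟨_, rfl⟩
  obtain ⟨L, hL⟩ : ∃ L : GLn, L = scl lam := ⟨_, rfl⟩
  have hZc : ∀ y : GLn, y * Z = Z * y := fun y => by rw [hZ]; exact sc_comm ε y
  have hLc : ∀ y : GLn, y * L = L * y := fun y => by rw [hL]; exact sc_comm lam y
  rw [← hY, ← hZ] at hgP
  rw [← hL] at hc ⊢
  rw [map_mul, map_mul, map_inv, ← hY]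
  have hY' : Y = (Z * g)⁻¹ * P := by
    rw [← hgP]
    group
  have h1 : Y⁻¹ * sG τ h * Y = P⁻¹ * ((Z * g) * sG τ h * (Z * g)⁻¹) * P := by
    rw [hY']
    group
  have h2 : (Z * g) * sG τ h * (Z * g)⁻¹ = Z * (g * sG τ h * g⁻¹) * Z⁻¹ := by group
  rw [h1, h2, hc, conj_central Z _ hZc, ← mul_assoc, hLc P⁻¹]
  group

/-- elements of the image of the conjugated pair homomorphism commute with `g τ` up to scalars -/
theorem comm_of_pair (ι : F₀ →+* F) (τ : RingAut F) (hι : ∀ b, τ (ι b) = ι b) (g P : GLn)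
    (ε : Fˣ) (hgP : scl ε * g * sG τ P = P) (x : Fˣ × GL (Fin n) F₀) :
    g * sG τ (pairHomP ι P x) = scl (uA τ x.1 / x.1) * (pairHomP ι P x * g) := by
  obtain ⟨Y, hY⟩ : ∃ Y : GLn, Y = sG τ P := ⟨_, rfl⟩
  obtain ⟨Z, hZ⟩ : ∃ Z : GLn, Z = scl ε := ⟨_, rfl⟩
  obtain ⟨L, hL⟩ : ∃ L : GLn, L = scl (uA τ x.1 / x.1) := ⟨_, rfl⟩
  obtain ⟨y, hy⟩ : ∃ y : GLn, y = pairHom ι x := ⟨_, rfl⟩
  have hZc : ∀ y : GLn, y * Z = Z * y := fun y => by rw [hZ]; exact sc_comm ε y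
  have hLc : ∀ y : GLn, y * L = L * y := fun y => by rw [hL]; exact sc_comm _ y
  have hsy : sG τ y = L * y := by rw [hy, hL, sG_pairHom ι τ hι]
  rw [← hY, ← hZ] at hgP
  rw [pairHomP_apply, ← hy, ← hL, map_mul, map_mul, map_inv, ← hY, hsy]
  have hg : g = Z⁻¹ * (P * Y⁻¹) := by
    rw [← hgP]
    group
  have hZi : ∀ w : GLn, w * Z⁻¹ = Z⁻¹ * w := by
    intro w
    calc w * Z⁻¹ = Z⁻¹ * (Z * w) * Z⁻¹ := by group
      _ = Z⁻¹ * (w * Z) * Z⁻¹ := by rw [hZc]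
      _ = Z⁻¹ * w := by group
  have hg' : g = P * Y⁻¹ * Z⁻¹ := by
    rw [hg, hZi]
  calc g * (Y * (L * y) * Y⁻¹) = Z⁻¹ * (P * Y⁻¹) * (Y * (L * y) * Y⁻¹) := by rw [← hg]
    _ = Z⁻¹ * (P * L) * (y * Y⁻¹) := by group
    _ = Z⁻¹ * (L * P) * (y * Y⁻¹) := by rw [hLc P]
    _ = (Z⁻¹ * L) * (P * y * Y⁻¹) := by group
    _ = (L * Z⁻¹) * (P * y * Y⁻¹) := by rw [hLc Z⁻¹]
    _ = L * (P * y * P⁻¹ * (P * Y⁻¹ * Z⁻¹)) := by
        rw [show P * y * P⁻¹ * (P * Y⁻¹ * Z⁻¹) = (P * y * Y⁻¹) * Z⁻¹ from by group]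
        rw [hZi (P * y * Y⁻¹), mul_assoc]
    _ = L * (P * y * P⁻¹ * g) := by rw [← hg']

end glP2

section guP

open Cfsg.Agent.Lib.Helper9.APSU

variable {F : Type*} [Field F] [Fintype F] {q : ℕ} (hF : Fintype.card F = q ^ 2) (n : ℕ)
  {F₀ : Type*} [Field F₀]

set_option quotPrecheck false
local notation "Mn" => Matrix (Fin n) (Fin n) F
local notation "M₀" => Matrix (Fin n) (Fin n) F₀
local notation "GLn" => GL (Fin n) F
local notation "GUn" => ↥(Cfsg.GU n F q)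
local notation "PSUn" => Cfsg.PSU n F q
local notation "scl" => Matrix.GeneralLinearGroup.scalar (Fin n)

include hF in
/-- an inner-diagonal automorphism commutes with `cU g * fU τ` iff it comes from a unitary matrix
of the form `P (ν ι(g₀)) P⁻¹` -/
theorem cent_iffP (hn : 3 ≤ n) (τ : RingAut F) (hτq : ∀ x : F, τ x = x ^ q)
    (hτ2 : τ * τ = 1) (hτ1 : τ ≠ 1) (ι : F₀ →+* F) (hι : ∀ a : F, τ a = a ↔ a ∈ Set.range ι)
    (g : GUn) (P : GLn) (ε : Fˣ) (hgP : scl ε * (g : GLn) * sG τ P = P)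
    (β : MulAut PSUn) :
    β ∈ (cU (F := F) (q := q) n).range ⊓ Subgroup.centralizer {cU n g * fU n τ}
      ↔ ∃ x : Fˣ × GL (Fin n) F₀, ∃ hx : pairHomP ι P x ∈ Cfsg.GU n F q,
          β = cU n ⟨pairHomP ι P x, hx⟩ := by
  have hn0 : 0 < n := by omega
  have hι' : ∀ b, τ (ι b) = ι b := fun b => (hι _).mpr ⟨b, rfl⟩
  rw [Subgroup.mem_inf, mem_cent_single]
  have hcomm_iff : ∀ h : GUn, (cU n g * fU n τ * cU n h = cU n h * (cU n g * fU n τ)) ↔
      cU n (g * fieldGU n τ h) = cU n (h * g) := by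
    intro h
    rw [mul_assoc, fU_mul_cU, ← mul_assoc, ← mul_assoc, ← map_mul, ← map_mul]
    exact mul_left_inj _
  constructor
  · rintro ⟨⟨h, rfl⟩, hcomm⟩
    rw [hcomm_iff] at hcomm
    have h2 : g * fieldGU n τ h * (h * g)⁻¹ ∈ (cU (F := F) (q := q) n).ker := by
      rw [MonoidHom.mem_ker, map_mul, map_inv, hcomm, mul_inv_cancel]
    obtain ⟨lam, hlam⟩ := exists_scalar_of_mem_ker hF n hn h2
    have hlam' : (g : GLn) * sG τ (h : GLn) * ((h : GLn) * (g : GLn))⁻¹ = scl lam := hlam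
    have h3 : (g : GLn) * sG τ (h : GLn) * (g : GLn)⁻¹ = scl lam * h := by
      rw [← hlam']
      group
    have h4 := twisted_of_comm τ (g : GLn) P (h : GLn) ε lam hgP h3
    obtain ⟨x, hx⟩ := exists_pair_of_twistedP ι τ hι hτ2 hτ1 hn0 P (h : GLn) lam h4
    refine ⟨x, by rw [hx]; exact h.2, ?_⟩
    congr 1
    exact Subtype.ext hx.symm
  · rintro ⟨x, hx, rfl⟩
    refine ⟨⟨_, rfl⟩, ?_⟩
    rw [hcomm_iff]
    have hu : (uA τ x.1 / x.1) * uA τ (uA τ x.1 / x.1) = 1 := by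
      rw [map_div, ← uA_mul, hτ2, uA_one, div_mul_div_comm, mul_comm, div_self']
    obtain ⟨Z, hZ⟩ : ∃ Z : GUn, (Z : GLn) = scl (uA τ x.1 / x.1) :=
      ⟨⟨_, scl_mem_GU τ q hτq _ hu⟩, rfl⟩
    have h4 : g * fieldGU n τ ⟨pairHomP ι P x, hx⟩ = Z * (⟨pairHomP ι P x, hx⟩ * g) := by
      apply Subtype.ext
      show (g : GLn) * sG τ (pairHomP ι P x) = (Z : GLn) * (pairHomP ι P x * (g : GLn))
      rw [hZ, comm_of_pair ι τ hι' (g : GLn) P ε hgP]
    rw [h4, map_mul, cU_of_scalar hF n hn Z _ hZ, one_mul]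

include hF in
/-- **the centraliser of `cU g * fU τ` in `Inndiag(PSU_n(q))`**, for `g = ε⁻¹ P τ(P)⁻¹` with
`P^* P = κ ι(S₀)`: the projective similitude group of `S₀` over the fixed field -/
theorem exists_cent_equivP (hn : 3 ≤ n) (τ : RingAut F)
    (hτq : ∀ x : F, τ x = x ^ q) (hτ2 : τ * τ = 1) (hτ1 : τ ≠ 1) (ι : F₀ →+* F)
    (hι : ∀ a : F, τ a = a ↔ a ∈ Set.range ι)
    (g : GUn) (P : GLn) (ε κ : Fˣ) (S₀ : GL (Fin n) F₀)
    (hgP : scl ε * (g : GLn) * sG τ P = P)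
    (hPS : ct τ (P : Mn) * (P : Mn) = (κ : F) • (S₀ : M₀).map ι) :
    Nonempty (↥((cU (F := F) (q := q) n).range ⊓ Subgroup.centralizer {cU n g * fU n τ})
      ≃* projQuot (Geo.similarityGroup (F := F₀) (bf (S₀ : M₀)))) := by
  have hn0 : 0 < n := by omega
  have hn2 : 2 ≤ n := by omega
  have hι' : ∀ b, τ (ι b) = ι b := fun b => (hι _).mpr ⟨b, rfl⟩
  obtain ⟨Gt, hGt⟩ : ∃ Gt : Subgroup (Fˣ × GL (Fin n) F₀),
      Gt = (Cfsg.GU n F q).comap (pairHomP ι P) := ⟨_, rfl⟩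
  have hmem : ∀ x, x ∈ Gt ↔ pairHomP ι P x ∈ Cfsg.GU n F q := by
    intro x
    rw [hGt]
    rfl
  obtain ⟨M, hM⟩ : ∃ M : ↥Gt →* GUn,
      ∀ x, ((M x : GUn) : GLn) = pairHomP ι P (x : Fˣ × GL (Fin n) F₀) :=
    ⟨((pairHomP ι P).comp Gt.subtype).codRestrict _ (fun x => (hmem x.1).mp x.2), fun _ => rfl⟩
  obtain ⟨Ψ, hΨ⟩ : ∃ Ψ : ↥Gt →*
      ↥((cU (F := F) (q := q) n).range ⊓ Subgroup.centralizer {cU n g * fU n τ}),
      ∀ x, (Ψ x : MulAut PSUn) = cU n (M x) :=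
    ⟨((cU n).comp M).codRestrict _ (fun x =>
      (cent_iffP hF n hn τ hτq hτ2 hτ1 ι hι g P ε hgP _).mpr
        ⟨x.1, (hmem x.1).mp x.2, congrArg (cU n) (Subtype.ext (hM x))⟩), fun _ => rfl⟩
  have hΨsurj : Function.Surjective Ψ := by
    intro β
    obtain ⟨x, hx, e⟩ := (cent_iffP hF n hn τ hτq hτ2 hτ1 ι hι g P ε hgP _).mp β.2
    refine ⟨⟨x, (hmem x).mpr hx⟩, ?_⟩
    apply Subtype.ext
    rw [hΨ, e]
    congr 1
    apply Subtype.ext
    rw [hM]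
  obtain ⟨S, hS⟩ : ∃ S : ↥Gt →*
      ↥(Geo.similarityGroup (F := F₀) (bf (S₀ : M₀))),
      ∀ x, ((S x : ↥(Geo.similarityGroup (F := F₀) (bf (S₀ : M₀)))) :
        GL (Fin n) F₀) = (x : Fˣ × GL (Fin n) F₀).2 :=
    ⟨((MonoidHom.snd _ _).comp Gt.subtype).codRestrict _ (fun x =>
      snd_mem_simP ι τ q hτq hι' hn0 P κ S₀ hPS x.1 ((hmem x.1).mp x.2)), fun _ => rfl⟩
  obtain ⟨Φ, hΦ⟩ : ∃ Φ : ↥Gt →* projQuot (Geo.similarityGroup (F := F₀) (bf (S₀ : M₀))),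
      Φ = (QuotientGroup.mk' _).comp S := ⟨_, rfl⟩
  have hΦsurj : Function.Surjective Φ := by
    intro y
    obtain ⟨g₀, rfl⟩ := QuotientGroup.mk_surjective y
    obtain ⟨ν, hν⟩ := exists_pair_of_simP ι τ q hτq hι' hτ2 hτ1 hn0 P κ S₀ hPS g₀.1 g₀.2
    refine ⟨⟨(ν, g₀.1), (hmem _).mpr hν⟩, ?_⟩
    rw [hΦ]
    show QuotientGroup.mk _ = QuotientGroup.mk _
    congr 1
    apply Subtype.ext
    rw [hS]
  have hker : Ψ.ker = Φ.ker := by
    ext x
    rw [MonoidHom.mem_ker, MonoidHom.mem_ker]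
    have h1 : Ψ x = 1 ↔ (x : Fˣ × GL (Fin n) F₀).2 ∈ Subgroup.center (GL (Fin n) F₀) := by
      rw [← glmap_mem_center_iff hn0 ι, Matrix.GeneralLinearGroup.center_eq_range_scalar]
      constructor
      · intro h
        have h3 : cU n (M x) = 1 := by
          rw [← hΨ, h]
          rfl
        obtain ⟨u, hu⟩ := exists_scalar_of_mem_ker hF n hn (MonoidHom.mem_ker.mpr h3)
        rw [hM, pairHomP_apply] at hu
        have hu' : pairHom ι (x : Fˣ × GL (Fin n) F₀) = scl u := by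
          have : pairHom ι (x : Fˣ × GL (Fin n) F₀) = P⁻¹ * scl u * P := by
            rw [← hu]
            group
          rw [this, mul_assoc, ← sc_comm, inv_mul_cancel_left]
        rw [pairHom_apply] at hu'
        refine ⟨u / (x : Fˣ × GL (Fin n) F₀).1, ?_⟩
        rw [map_div, div_eq_mul_inv, ← hu', Matrix.GeneralLinearGroup.scalar_commute,
          mul_inv_cancel_right]
      · rintro ⟨u, hu⟩
        apply Subtype.ext
        rw [hΨ]
        refine cU_of_scalar hF n hn (M x) ((x : Fˣ × GL (Fin n) F₀).1 * u) ?_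
        rw [hM, pairHomP_apply, pairHom_apply, ← hu, ← map_mul, sc_comm, mul_inv_cancel_right]
    have h2' : Φ x = 1 ↔ (x : Fˣ × GL (Fin n) F₀).2 ∈ Subgroup.center (GL (Fin n) F₀) := by
      rw [hΦ, MonoidHom.comp_apply, QuotientGroup.mk'_apply, QuotientGroup.eq_one_iff,
        Subgroup.mem_subgroupOf, hS]
      have h5 : Cfsg.Geo.scalars (Fin n) F₀ = Subgroup.center (GL (Fin n) F₀) := by
        rw [Matrix.GeneralLinearGroup.center_eq_range_scalar]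
        rfl
      rw [h5]
    rw [h1, h2']
  exact ⟨(QuotientGroup.quotientKerEquivOfSurjective Ψ hΨsurj).symm.trans
    ((QuotientGroup.quotientMulEquivOfEq hker).trans
      (QuotientGroup.quotientKerEquivOfSurjective Φ hΦsurj))⟩

end guP

end Cfsg.Agent.Lib.Helper5.PsuGraph
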