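import Mathlib
import Cfsg.Prelude
import Cfsg.Agent.Lib.Helper5.PsuGraph.Transfer2

/-! Transfer of involutory graph automorphisms from `PSU_n(q)` to `PSL_n(q)`, part 3: the
conjugacy criterion. -/

set_option autoImplicit false
open Cfsg

namespace Cfsg.Agent.Lib.Helper5.PsuGraph

open Matrix

open Cfsg.Agent.Lib.Helper9.APSL (sG sG_coe sG_one sG_mul uA uA_coe uA_one uA_mul nrm
  nrm_apply nrm_two sG_scalar exists_field_h90 norm_surjective ct ct_apply ct_mul ct_smul ct_ct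
  ct_one mem_GU_iff glmap_coe
  sG_glmap exists_glmap_eq scalar_eq_one hinj_two glmap_mem_center_iff sG_pow_of_scalar
  mem_cent_single orderOf_involution)

open Cfsg.Agent.Lib.Helper9.APSU (thG thG_apply thG_inv_coe mem_GU_iff_thG sc_comm)

open Cfsg.Agent.Lib.Helper5.PslGraph

section grp3

/-- the twisted-conjugacy computation modulo the centre, first direction -/
theorem twist_aux1 {G : Type*} [Group G] (s : G →* G) (g g' P P' h Z Z' W : G)
    (hZ : Z ∈ Subgroup.center G) (hZ' : Z' ∈ Subgroup.center G) (hW : W ∈ Subgroup.center G)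
    (hgP : Z * g * s P = P) (hgP' : Z' * g' * s P' = P') (hconj : g' = W * h * g * (s h)⁻¹) :
    s ((h * P)⁻¹ * P') * ((h * P)⁻¹ * P')⁻¹ ∈ Subgroup.center G := by
  obtain ⟨π, hπ⟩ : ∃ π : G →* G ⧸ Subgroup.center G, π = QuotientGroup.mk' _ := ⟨_, rfl⟩
  have hker : ∀ x : G, π x = 1 ↔ x ∈ Subgroup.center G := by
    intro x
    rw [hπ]
    exact QuotientGroup.eq_one_iff x
  rw [← hker]
  have h1 : π Z = 1 := (hker Z).mpr hZ
  have h2 : π Z' = 1 := (hker Z').mpr hZ'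
  have h3 : π W = 1 := (hker W).mpr hW
  have e1 := congrArg π hgP
  rw [map_mul, map_mul, h1, one_mul] at e1
  have e2 := congrArg π hgP'
  rw [map_mul, map_mul, h2, one_mul] at e2
  have e3 := congrArg π hconj
  rw [map_mul, map_mul, map_mul, map_inv, h3, one_mul] at e3
  rw [map_mul s, map_inv s, map_mul s]
  simp only [map_mul, map_inv]
  rw [← e1, ← e2, e3]
  group

/-- the twisted-conjugacy computation modulo the centre, second direction -/
theorem twist_aux2 {G : Type*} [Group G] (s : G →* G) (g g' P P' t Z Z' M : G)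
    (hZ : Z ∈ Subgroup.center G) (hZ' : Z' ∈ Subgroup.center G) (hM : M ∈ Subgroup.center G)
    (hsM : s M ∈ Subgroup.center G) (hst : s t = t)
    (hgP : Z * g * s P = P) (hgP' : Z' * g' * s P' = P') :
    g' * ((M⁻¹ * (P' * t * P⁻¹)) * g * (s (M⁻¹ * (P' * t * P⁻¹)))⁻¹)⁻¹ ∈ Subgroup.center G := by
  obtain ⟨π, hπ⟩ : ∃ π : G →* G ⧸ Subgroup.center G, π = QuotientGroup.mk' _ := ⟨_, rfl⟩
  have hker : ∀ x : G, π x = 1 ↔ x ∈ Subgroup.center G := by
    intro x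
    rw [hπ]
    exact QuotientGroup.eq_one_iff x
  rw [← hker]
  have h1 : π Z = 1 := (hker Z).mpr hZ
  have h2 : π Z' = 1 := (hker Z').mpr hZ'
  have h3 : π M = 1 := (hker M).mpr hM
  have h4 : π (s M) = 1 := (hker _).mpr hsM
  have e1 := congrArg π hgP
  rw [map_mul, map_mul, h1, one_mul] at e1
  have e2 := congrArg π hgP'
  rw [map_mul, map_mul, h2, one_mul] at e2
  rw [map_mul s, map_inv s, map_mul s, map_mul s, map_inv s, hst]
  simp only [map_mul, map_inv]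
  rw [h3, h4, ← e1, ← e2]
  group

end grp3

section glP3

variable {F : Type*} [Field F] {n : ℕ} {F₀ : Type*} [Field F₀]

local notation "Mn" => Matrix (Fin n) (Fin n) F
local notation "M₀" => Matrix (Fin n) (Fin n) F₀
local notation "GLn" => GL (Fin n) F
local notation "scl" => Matrix.GeneralLinearGroup.scalar (Fin n)

theorem scl_mem_center (u : Fˣ) : (scl u : GLn) ∈ Subgroup.center GLn := by
  rw [Matrix.GeneralLinearGroup.center_eq_range_scalar]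
  exact ⟨u, rfl⟩

theorem exists_scl_of_mem_center {C : GLn} (h : C ∈ Subgroup.center GLn) :
    ∃ u : Fˣ, C = scl u := by
  rw [Matrix.GeneralLinearGroup.center_eq_range_scalar] at h
  obtain ⟨u, hu⟩ := h
  exact ⟨u, hu.symm⟩

/-- if `N • ι(A) = ι(B)` with `B` invertible then `A` and `B` are proportional over `F₀` -/
theorem exists_smul_eq_of_map (ι : F₀ →+* F) (hn : 0 < n) (N : F) (A : M₀)
    (B : GL (Fin n) F₀) (h : N • A.map ι = (B : M₀).map ι) : ∃ d : F₀, d • A = (B : M₀) := by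
  have hent : ∀ i j, N * ι (A i j) = ι ((B : M₀) i j) := by
    intro i j
    have := congrFun (congrFun h i) j
    rwa [Matrix.smul_apply, Matrix.map_apply, smul_eq_mul, Matrix.map_apply] at this
  obtain ⟨i, j, hij⟩ := exists_entry_ne_zero hn B
  have hιij : ι ((B : M₀) i j) ≠ 0 := by
    rw [Ne, map_eq_zero]
    exact hij
  have hA0 : A i j ≠ 0 := by
    intro h0
    have := hent i j
    rw [h0, map_zero, mul_zero] at this
    exact hιij this.symm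
  have hιA0 : ι (A i j) ≠ 0 := by
    rw [Ne, map_eq_zero]
    exact hA0
  have hNeq : N = ι ((B : M₀) i j / A i j) := by
    rw [map_div₀, eq_div_iff hιA0]
    exact hent i j
  refine ⟨(B : M₀) i j / A i j, ?_⟩
  ext k l
  apply ι.injective
  have h3 := hent k l
  rw [hNeq, ← map_mul] at h3
  rw [Matrix.smul_apply, smul_eq_mul]
  exact h3

theorem ct_glmap (ι : F₀ →+* F) (τ : RingAut F) (hι : ∀ b, τ (ι b) = ι b) (T : M₀) :
    ct τ (T.map ι) = (Tᵀ).map ι := by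
  ext i j
  simp [ct_apply, hι]

theorem ct_mul_self_of_mem_GU (τ : RingAut F) (q : ℕ) (hq : ∀ x : F, τ x = x ^ q) (h : GLn)
    (hh : h ∈ Cfsg.GU n F q) : ct τ (h : Mn) * (h : Mn) = 1 := by
  rw [mem_GU_iff τ q hq] at hh
  exact mul_eq_one_comm.mp hh

/-- first direction of the conjugacy criterion, at the level of matrices -/
theorem form_of_conj (ι : F₀ →+* F) (τ : RingAut F) (q : ℕ) (hq : ∀ x : F, τ x = x ^ q)
    (hι : ∀ a : F, τ a = a ↔ a ∈ Set.range ι) (hτ2 : τ * τ = 1) (hτ1 : τ ≠ 1) (hn : 0 < n)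
    (g g' P P' h : GLn) (hh : h ∈ Cfsg.GU n F q) (ε ε' κ κ' z : Fˣ) (S₀ S₀' : GL (Fin n) F₀)
    (hgP : scl ε * g * sG τ P = P)
    (hPS : ct τ (P : Mn) * (P : Mn) = (κ : F) • (S₀ : M₀).map ι)
    (hgP' : scl ε' * g' * sG τ P' = P')
    (hPS' : ct τ (P' : Mn) * (P' : Mn) = (κ' : F) • (S₀' : M₀).map ι)
    (hconj : g' = scl z * h * g * (sG τ h)⁻¹) :
    ∃ (T : GL (Fin n) F₀) (c : F₀), (T : M₀)ᵀ * (S₀' : M₀) * (T : M₀) = c • (S₀ : M₀) := by
  have hι' : ∀ b, τ (ι b) = ι b := fun b => (hι _).mpr ⟨b, rfl⟩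
  obtain ⟨R, hR⟩ : ∃ R : GLn, R = (h * P)⁻¹ * P' := ⟨_, rfl⟩
  have h1 := twist_aux1 (sG τ) g g' P P' h (scl ε) (scl ε') (scl z) (scl_mem_center ε)
    (scl_mem_center ε') (scl_mem_center z) hgP hgP' hconj
  rw [← hR] at h1
  obtain ⟨lam, hlam⟩ := exists_scl_of_mem_center h1
  have h2 : sG τ R = scl lam * R := by
    rw [← hlam, inv_mul_cancel_right]
  obtain ⟨x, hx⟩ := exists_pair_of_twisted ι τ hι hτ2 hτ1 hn R lam h2
  have hP' : P' = h * P * pairHom ι x := by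
    rw [hx, hR]
    group
  have h3 : ct τ (P' : Mn) * (P' : Mn) =
      ((κ : F) * ((x.1 : F) * τ x.1)) • ((x.2 : M₀)ᵀ * (S₀ : M₀) * (x.2 : M₀)).map ι := by
    rw [hP', Units.val_mul, Units.val_mul, ct_mul, ct_mul]
    have h4 : ct τ ((pairHom ι x : GLn) : Mn) * (ct τ (P : Mn) * ct τ (h : Mn)) *
        ((h : Mn) * (P : Mn) * ((pairHom ι x : GLn) : Mn)) =
        ct τ ((pairHom ι x : GLn) : Mn) * (ct τ (P : Mn) * (ct τ (h : Mn) * (h : Mn)) * (P : Mn)) *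
          ((pairHom ι x : GLn) : Mn) := by
      simp only [Matrix.mul_assoc]
    rw [h4, ct_mul_self_of_mem_GU τ q hq h hh, Matrix.mul_one, hPS, pairHom_coe, ct_pair ι τ hι',
      Matrix.map_mul, Matrix.map_mul]
    simp only [Matrix.smul_mul, Matrix.mul_smul, smul_smul]
    congr 1
    ring
  rw [hPS'] at h3
  have h5 : (((κ' : F))⁻¹ * ((κ : F) * ((x.1 : F) * τ x.1))) •
      ((x.2 : M₀)ᵀ * (S₀ : M₀) * (x.2 : M₀)).map ι = (S₀' : M₀).map ι := by
    rw [← smul_smul, ← h3, smul_smul, inv_mul_cancel₀ κ'.ne_zero, one_smul]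
  obtain ⟨d, hd⟩ := exists_smul_eq_of_map ι hn _ _ S₀' h5
  refine ⟨x.2⁻¹, d, ?_⟩
  rw [← hd]
  have h6 : ((x.2⁻¹ : GL (Fin n) F₀) : M₀)ᵀ * (x.2 : M₀)ᵀ = 1 := by
    rw [← Matrix.transpose_mul, ← Units.val_mul, mul_inv_cancel, Units.val_one,
      Matrix.transpose_one]
  have h7 : (x.2 : M₀) * ((x.2⁻¹ : GL (Fin n) F₀) : M₀) = 1 := by
    rw [← Units.val_mul, mul_inv_cancel, Units.val_one]
  calc ((x.2⁻¹ : GL (Fin n) F₀) : M₀)ᵀ * (d • ((x.2 : M₀)ᵀ * (S₀ : M₀) * (x.2 : M₀))) *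
        ((x.2⁻¹ : GL (Fin n) F₀) : M₀)
      = d • ((((x.2⁻¹ : GL (Fin n) F₀) : M₀)ᵀ * (x.2 : M₀)ᵀ) * (S₀ : M₀) *
          ((x.2 : M₀) * ((x.2⁻¹ : GL (Fin n) F₀) : M₀))) := by
        simp only [Matrix.smul_mul, Matrix.mul_smul, Matrix.mul_assoc]
    _ = d • (S₀ : M₀) := by rw [h6, h7, Matrix.one_mul, Matrix.mul_one]

/-- second direction of the conjugacy criterion, at the level of matrices -/
theorem conj_of_form [Finite F] (ι : F₀ →+* F) (τ : RingAut F) (q : ℕ)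
    (hq : ∀ x : F, τ x = x ^ q)
    (hι : ∀ a : F, τ a = a ↔ a ∈ Set.range ι) (hτ2 : τ * τ = 1) (hτ1 : τ ≠ 1) (hn : 0 < n)
    (g g' P P' : GLn) (ε ε' κ κ' : Fˣ) (S₀ S₀' : GL (Fin n) F₀)
    (hgP : scl ε * g * sG τ P = P)
    (hPS : ct τ (P : Mn) * (P : Mn) = (κ : F) • (S₀ : M₀).map ι)
    (hgP' : scl ε' * g' * sG τ P' = P')
    (hPS' : ct τ (P' : Mn) * (P' : Mn) = (κ' : F) • (S₀' : M₀).map ι)
    (T : GL (Fin n) F₀) (c : F₀)
    (hT : (T : M₀)ᵀ * (S₀' : M₀) * (T : M₀) = c • (S₀ : M₀)) :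
    ∃ (h : GLn) (z : Fˣ), h ∈ Cfsg.GU n F q ∧ g' = scl z * (h * g * (sG τ h)⁻¹) := by
  have hι' : ∀ b, τ (ι b) = ι b := fun b => (hι _).mpr ⟨b, rfl⟩
  have hc0 : c ≠ 0 := by
    rintro rfl
    rw [zero_smul] at hT
    have : Nonempty (Fin n) := ⟨⟨0, hn⟩⟩
    have := congrArg Matrix.det hT
    rw [Matrix.det_mul, Matrix.det_mul, Matrix.det_transpose, Matrix.det_zero] at this
    have hdet : (T : M₀).det ≠ 0 := Matrix.GeneralLinearGroup.det_ne_zero T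
    have hdetS : (S₀' : M₀).det ≠ 0 := Matrix.GeneralLinearGroup.det_ne_zero S₀'
    exact mul_ne_zero (mul_ne_zero hdet hdetS) hdet this
  have hιc0 : ι c ≠ 0 := by
    rw [Ne, map_eq_zero]
    exact hc0
  obtain ⟨U, hU⟩ : ∃ U : GLn, U = P' * Matrix.GeneralLinearGroup.map ι T * P⁻¹ := ⟨_, rfl⟩
  obtain ⟨d, hd⟩ : ∃ d : F, d = (κ' : F) * ι c * ((κ : F))⁻¹ := ⟨_, rfl⟩
  have hd0 : d ≠ 0 := by
    rw [hd]
    exact mul_ne_zero (mul_ne_zero κ'.ne_zero hιc0) (inv_ne_zero κ.ne_zero)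
  have hUU : ct τ (U : Mn) * (U : Mn) = d • (1 : Mn) := by
    have hS : ((S₀ : M₀).map ι : Mn) = ((κ : F))⁻¹ • (ct τ (P : Mn) * (P : Mn)) := by
      rw [hPS, smul_smul, inv_mul_cancel₀ κ.ne_zero, one_smul]
    have hPi : ct τ (((P⁻¹ : GLn)) : Mn) * ct τ (P : Mn) = 1 := by
      rw [← ct_mul, ← Units.val_mul, mul_inv_cancel, Units.val_one, ct_one]
    have hPi' : (P : Mn) * ((P⁻¹ : GLn) : Mn) = 1 := by
      rw [← Units.val_mul, mul_inv_cancel, Units.val_one]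
    rw [hU, Units.val_mul, Units.val_mul, ct_mul, ct_mul, glmap_coe, ct_glmap ι τ hι']
    calc ct τ ((P⁻¹ : GLn) : Mn) * (((T : M₀)ᵀ).map ι * ct τ (P' : Mn)) *
          ((P' : Mn) * (T : M₀).map ι * ((P⁻¹ : GLn) : Mn))
        = ct τ ((P⁻¹ : GLn) : Mn) * (((T : M₀)ᵀ).map ι * (ct τ (P' : Mn) * (P' : Mn)) *
            (T : M₀).map ι) * ((P⁻¹ : GLn) : Mn) := by
          simp only [Matrix.mul_assoc]
      _ = ct τ ((P⁻¹ : GLn) : Mn) * ((κ' : F) • ((T : M₀)ᵀ * (S₀' : M₀) * (T : M₀)).map ι) *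
            ((P⁻¹ : GLn) : Mn) := by
          rw [hPS', Matrix.map_mul, Matrix.map_mul]
          simp only [Matrix.smul_mul, Matrix.mul_smul]
      _ = ct τ ((P⁻¹ : GLn) : Mn) * (((κ' : F) * ι c) • (S₀ : M₀).map ι) *
            ((P⁻¹ : GLn) : Mn) := by
          rw [hT]
          congr 2
          ext i j
          simp [mul_assoc]
      _ = d • ((ct τ ((P⁻¹ : GLn) : Mn) * ct τ (P : Mn)) * ((P : Mn) * ((P⁻¹ : GLn) : Mn))) := by
          rw [hS, hd]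
          simp only [Matrix.smul_mul, Matrix.mul_smul, smul_smul, Matrix.mul_assoc]
      _ = d • (1 : Mn) := by rw [hPi, hPi', Matrix.one_mul]
  have hτd : τ d = d := by
    have h1 : ct τ (ct τ (U : Mn) * (U : Mn)) = ct τ (U : Mn) * (U : Mn) := by
      rw [ct_mul, ct_ct τ hτ2]
    rw [hUU, ct_smul, ct_one] at h1
    have := congrFun (congrFun h1 ⟨0, hn⟩) ⟨0, hn⟩
    simpa using this
  obtain ⟨lam, hlam⟩ : ∃ lam : Fˣ, (lam : F) = d := ⟨Units.mk0 d hd0, rfl⟩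
  have hfix : uA τ lam = lam := by
    apply Units.ext
    rw [uA_coe, hlam, hτd]
  have hτ2' : τ ^ 2 = 1 := by rw [pow_two, hτ2]
  obtain ⟨μ, hμ⟩ := norm_surjective τ 2 (by norm_num) (hinj_two τ hτ1) hτ2' lam hfix
  rw [nrm_two] at hμ
  have hμd : (μ : F) * τ μ = d := by
    rw [← hlam, ← hμ, Units.val_mul, uA_coe]
  obtain ⟨h, hh⟩ : ∃ h : GLn, h = (scl μ)⁻¹ * U := ⟨_, rfl⟩
  have hhU : h ∈ Cfsg.GU n F q := by
    rw [mem_GU_iff τ q hq, mul_eq_one_comm, hh, ← map_inv, Units.val_mul,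
      Matrix.GeneralLinearGroup.coe_scalar, Matrix.scalar_apply, ← Matrix.smul_eq_diagonal_mul,
      ct_smul, Matrix.smul_mul, Matrix.mul_smul, smul_smul, hUU, smul_smul]
    have : τ ((μ⁻¹ : Fˣ) : F) * ((μ⁻¹ : Fˣ) : F) * d = 1 := by
      rw [← hμd, Units.val_inv_eq_inv_val, map_inv₀]
      have h1 : (μ : F) ≠ 0 := μ.ne_zero
      have h2 : τ (μ : F) ≠ 0 := by
        rw [Ne, map_eq_zero]
        exact h1
      field_simp
    rw [this, one_smul]
  have h1 := twist_aux2 (sG τ) g g' P P' (Matrix.GeneralLinearGroup.map ι T) (scl ε) (scl ε')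
    (scl μ) (scl_mem_center ε) (scl_mem_center ε') (scl_mem_center μ)
    (by rw [sG_scalar]; exact scl_mem_center _) (sG_glmap τ ι hι' T) hgP hgP'
  rw [← hU, ← hh] at h1
  obtain ⟨z, hz⟩ := exists_scl_of_mem_center h1
  refine ⟨h, z, hhU, ?_⟩
  rw [← hz, inv_mul_cancel_right]

end glP3

section guP3

open Cfsg.Agent.Lib.Helper9.APSU

variable {F : Type*} [Field F] [Fintype F] {q : ℕ} (hF : Fintype.card F = q ^ 2) (n : ℕ)
  {F₀ : Type*} [Field F₀]

set_option quotPrecheck false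
local notation "Mn" => Matrix (Fin n) (Fin n) F
local notation "M₀" => Matrix (Fin n) (Fin n) F₀
local notation "GLn" => GL (Fin n) F
local notation "GUn" => ↥(Cfsg.GU n F q)
local notation "PSUn" => Cfsg.PSU n F q
local notation "scl" => Matrix.GeneralLinearGroup.scalar (Fin n)

omit [Fintype F] in
theorem conj_cU_fU (τ : RingAut F) (g h : GUn) :
    cU n h * (cU n g * fU n τ) * (cU n h)⁻¹ = cU n (h * g * (fieldGU n τ h)⁻¹) * fU n τ := by
  rw [← map_inv, mul_assoc, mul_assoc, fU_mul_cU, map_inv, map_mul, map_mul]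
  simp only [mul_assoc]

include hF in
/-- **conjugacy criterion**: `cU g * fU τ` and `cU g' * fU τ` are conjugate under the
inner-diagonal group iff the attached forms over the fixed field are similar -/
theorem isConjUnder_iffP (hn : 3 ≤ n) (τ : RingAut F)
    (hτq : ∀ x : F, τ x = x ^ q) (hτ2 : τ * τ = 1) (hτ1 : τ ≠ 1) (ι : F₀ →+* F)
    (hι : ∀ a : F, τ a = a ↔ a ∈ Set.range ι)
    (g g' : GUn) (P P' : GLn) (ε ε' κ κ' : Fˣ) (S₀ S₀' : GL (Fin n) F₀)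
    (hgP : scl ε * (g : GLn) * sG τ P = P)
    (hPS : ct τ (P : Mn) * (P : Mn) = (κ : F) • (S₀ : M₀).map ι)
    (hgP' : scl ε' * (g' : GLn) * sG τ P' = P')
    (hPS' : ct τ (P' : Mn) * (P' : Mn) = (κ' : F) • (S₀' : M₀).map ι) :
    IsConjUnder (cU (F := F) (q := q) n).range (cU n g * fU n τ) (cU n g' * fU n τ) ↔
      ∃ (T : GL (Fin n) F₀) (c : F₀), (T : M₀)ᵀ * (S₀' : M₀) * (T : M₀) = c • (S₀ : M₀) := by
  have hn0 : 0 < n := by omega
  constructor
  · rintro ⟨_, ⟨h, rfl⟩, e⟩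
    rw [conj_cU_fU] at e
    have e1 : cU n g' = cU n (h * g * (fieldGU n τ h)⁻¹) := mul_right_cancel e
    have h2 : g' * (h * g * (fieldGU n τ h)⁻¹)⁻¹ ∈ (cU (F := F) (q := q) n).ker := by
      rw [MonoidHom.mem_ker, map_mul, map_inv, e1, mul_inv_cancel]
    obtain ⟨z, hz⟩ := exists_scalar_of_mem_ker hF n hn h2
    have hz' : (g' : GLn) * ((h : GLn) * (g : GLn) * (sG τ (h : GLn))⁻¹)⁻¹ = scl z := hz
    have hconj : (g' : GLn) = scl z * (h : GLn) * (g : GLn) * (sG τ (h : GLn))⁻¹ := by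
      rw [mul_assoc, mul_assoc, ← mul_assoc (h : GLn), ← hz', inv_mul_cancel_right]
    exact form_of_conj ι τ q hτq hι hτ2 hτ1 hn0 (g : GLn) (g' : GLn) P P' (h : GLn) h.2 ε ε' κ κ'
      z S₀ S₀' hgP hPS hgP' hPS' hconj
  · rintro ⟨T, c, hT⟩
    obtain ⟨h, z, hh, hconj⟩ := conj_of_form ι τ q hτq hι hτ2 hτ1 hn0 (g : GLn) (g' : GLn) P P'
      ε ε' κ κ' S₀ S₀' hgP hPS hgP' hPS' T c hT
    refine ⟨cU n ⟨h, hh⟩, ⟨_, rfl⟩, ?_⟩
    rw [conj_cU_fU]
    congr 1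
    obtain ⟨k, hk⟩ : ∃ k : GUn, k = ⟨h, hh⟩ * g * (fieldGU n τ ⟨h, hh⟩)⁻¹ := ⟨_, rfl⟩
    rw [← hk]
    have hZ : ((g' * k⁻¹ : GUn) : GLn) = scl z := by
      show (g' : GLn) * ((k : GUn) : GLn)⁻¹ = scl z
      rw [hk]
      show (g' : GLn) * (h * (g : GLn) * (sG τ h)⁻¹)⁻¹ = scl z
      rw [hconj, mul_inv_cancel_right]
    have h3 := cU_of_scalar hF n hn (g' * k⁻¹) z hZ
    rw [map_mul, map_inv, mul_inv_eq_one] at h3
    exact h3

end guP3

end Cfsg.Agent.Lib.Helper5.PsuGraph
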