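import Mathlib
import Cfsg.Prelude
import Cfsg.Agent.Lib.Helper5.PsuGraph.Transfer3

/-! Transfer of involutory graph automorphisms from `PSU_n(q)` to `PSL_n(q)`, part 4: every
involutory graph automorphism of `PSU_n(q)` has an attached form over the fixed field. -/

set_option autoImplicit false
open Cfsg

namespace Cfsg.Agent.Lib.Helper5.PsuGraph

open Matrix

open Cfsg.Agent.Lib.Helper9.APSL (sG sG_coe sG_one sG_mul uA uA_coe uA_one uA_mul nrm
  nrm_apply nrm_two sG_scalar exists_field_h90 norm_surjective ct ct_apply ct_mul ct_smul ct_ct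
  ct_one mem_GU_iff glmap_coe
  sG_glmap exists_glmap_eq scalar_eq_one hinj_two glmap_mem_center_iff sG_pow_of_scalar
  mem_cent_single orderOf_involution tI tI_coe tI_inv_coe sG_tI Nk Nk_zero Nk_succ exists_descent
  ringAut_cyclic_card')

open Cfsg.Agent.Lib.Helper9.APSU (thG thG_apply thG_inv_coe mem_GU_iff_thG sc_comm scalar_inj)

open Cfsg.Agent.Lib.Helper5.PslGraph

section invol

/-- a finite field has at most one automorphism of order two -/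
theorem ringAut_involution_unique {F : Type*} [Field F] [Fintype F] (σ τ : RingAut F)
    (hσ : σ * σ = 1) (hσ1 : σ ≠ 1) (hτ : τ * τ = 1) (hτ1 : τ ≠ 1) : σ = τ := by
  classical
  obtain ⟨p, hp⟩ := CharP.exists F
  have hpp : p.Prime := CharP.char_is_prime F p
  have : Fact p.Prime := ⟨hpp⟩
  obtain ⟨f, _, hF'⟩ := FiniteField.card F p
  have hF'' : Nat.card F = p ^ (f : ℕ) := by rw [Nat.card_eq_fintype_card, hF']
  have hcyc := (ringAut_cyclic_card' (F := F) p f hF'').1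
  have hfin : Finite (RingAut F) :=
    Finite.of_injective (fun σ : RingAut F => (σ : F → F)) DFunLike.coe_injective
  have := Fintype.ofFinite (RingAut F)
  by_contra hne
  have h1 := IsCyclic.card_pow_eq_one_le (α := RingAut F) (n := 2) (by norm_num)
  have h2 : ({1, σ, τ} : Finset (RingAut F)) ⊆ Finset.univ.filter (fun a => a ^ 2 = 1) := by
    intro x hx
    simp only [Finset.mem_insert, Finset.mem_singleton] at hx
    rw [Finset.mem_filter]
    refine ⟨Finset.mem_univ _, ?_⟩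
    rcases hx with rfl | rfl | rfl
    · exact one_pow 2
    · rw [pow_two, hσ]
    · rw [pow_two, hτ]
  have h3 : ({1, σ, τ} : Finset (RingAut F)).card = 3 := by
    rw [Finset.card_insert_of_notMem, Finset.card_insert_of_notMem, Finset.card_singleton]
    · simpa using hne
    · simp only [Finset.mem_insert, Finset.mem_singleton, not_or]
      exact ⟨Ne.symm hσ1, Ne.symm hτ1⟩
  have := Finset.card_le_card h2
  omega

end invol

section glP4

variable {F : Type*} [Field F] {n : ℕ} {F₀ : Type*} [Field F₀]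

local notation "Mn" => Matrix (Fin n) (Fin n) F
local notation "M₀" => Matrix (Fin n) (Fin n) F₀
local notation "GLn" => GL (Fin n) F
local notation "scl" => Matrix.GeneralLinearGroup.scalar (Fin n)

theorem scl_coe (u : Fˣ) (A : GLn) : ((scl u * A : GLn) : Mn) = (u : F) • (A : Mn) := by
  rw [Units.val_mul, Matrix.GeneralLinearGroup.coe_scalar, Matrix.scalar_apply,
    ← Matrix.smul_eq_diagonal_mul]

theorem scl_coe' (u : Fˣ) : ((scl u : GLn) : Mn) = (u : F) • (1 : Mn) := by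
  rw [Matrix.GeneralLinearGroup.coe_scalar, Matrix.scalar_apply, Matrix.smul_one_eq_diagonal]

theorem sG_sG (τ : RingAut F) (hτ2 : τ * τ = 1) (g : GLn) : sG τ (sG τ g) = g := by
  rw [← sG_mul, hτ2, sG_one]

/-- a unitary matrix with `g τ(g) = z` satisfies `g = z gᵀ` -/
theorem eq_smul_transpose_of_unitary (τ : RingAut F) (q : ℕ) (hq : ∀ x : F, τ x = x ^ q)
    (hτ2 : τ * τ = 1) (g : GLn) (hg : g ∈ Cfsg.GU n F q) (z : Fˣ)
    (hz : g * sG τ g = scl z) : (g : Mn) = (z : F) • (g : Mn)ᵀ := by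
  rw [mem_GU_iff_thG τ q hq, thG_apply] at hg
  have h1 : sG τ g = tI g := by
    conv_lhs => rw [← hg]
    rw [sG_sG τ hτ2]
  rw [h1] at hz
  have h2 := congrArg (fun x : GLn => (x : Mn)) hz
  simp only [Units.val_mul, tI_coe, scl_coe'] at h2
  have h3 : ((g⁻¹ : GLn) : Mn)ᵀ * (g : Mn)ᵀ = 1 := by
    rw [← Matrix.transpose_mul, ← Units.val_mul, mul_inv_cancel, Units.val_one,
      Matrix.transpose_one]
  calc (g : Mn) = (g : Mn) * (((g⁻¹ : GLn) : Mn)ᵀ * (g : Mn)ᵀ) := by rw [h3, Matrix.mul_one]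
    _ = ((g : Mn) * ((g⁻¹ : GLn) : Mn)ᵀ) * (g : Mn)ᵀ := by rw [Matrix.mul_assoc]
    _ = (z : F) • (g : Mn)ᵀ := by rw [h2, Matrix.smul_mul, Matrix.one_mul]

/-- from a unitary `g` with `g τ(g)` scalar, the descent datum `(P, ε)` and the form `(κ, S₀)` -/
theorem exists_data_of_unitary [Finite F] (ι : F₀ →+* F) (τ : RingAut F) (q : ℕ)
    (hq : ∀ x : F, τ x = x ^ q)
    (hι : ∀ a : F, τ a = a ↔ a ∈ Set.range ι) (hτ2 : τ * τ = 1) (hτ1 : τ ≠ 1) (hn : 0 < n)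
    (g : GLn) (hg : g ∈ Cfsg.GU n F q) (z : Fˣ) (hz : g * sG τ g = scl z) :
    ∃ (P : GLn) (ε κ : Fˣ) (S₀ : GL (Fin n) F₀) (d : F₀), scl ε * g * sG τ P = P ∧
      ct τ (P : Mn) * (P : Mn) = (κ : F) • (S₀ : M₀).map ι ∧
      (S₀ : M₀) = d • (S₀ : M₀)ᵀ := by
  have hι' : ∀ b, τ (ι b) = ι b := fun b => (hι _).mpr ⟨b, rfl⟩
  have hτ2' : τ ^ 2 = 1 := by rw [pow_two, hτ2]
  -- `z` is fixed by `τ`
  have hτz : uA τ z = z := by
    have h1 : sG τ g * g = scl (uA τ z) := by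
      have := congrArg (sG τ) hz
      rwa [map_mul, sG_sG τ hτ2, sG_scalar] at this
    have h2 : sG τ g * g = scl z := by
      have : sG τ g = g⁻¹ * scl z := by rw [← hz, inv_mul_cancel_left]
      rw [this, mul_assoc, ← sc_comm, inv_mul_cancel_left]
    rw [h1] at h2
    exact scalar_inj hn h2
  have hτz' : uA τ z⁻¹ = z⁻¹ := by rw [map_inv, hτz]
  obtain ⟨ε, hε⟩ := norm_surjective τ 2 (by norm_num) (hinj_two τ hτ1) hτ2' z⁻¹ hτz'
  rw [nrm_two] at hε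
  obtain ⟨g₁, hg₁⟩ : ∃ g₁ : GLn, g₁ = scl ε * g := ⟨_, rfl⟩
  have hN : Nk τ g₁ 2 = 1 := by
    rw [Nk_succ, Nk_succ, Nk_zero, map_one, mul_one, hg₁, map_mul, sG_scalar]
    calc scl ε * g * (scl (uA τ ε) * sG τ g)
        = scl ε * (g * scl (uA τ ε)) * sG τ g := by group
      _ = scl ε * (scl (uA τ ε) * g) * sG τ g := by rw [sc_comm]
      _ = (scl ε * scl (uA τ ε)) * (g * sG τ g) := by group
      _ = 1 := by rw [hz, ← map_mul, ← map_mul, hε, inv_mul_cancel, map_one]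
  obtain ⟨P, hP⟩ := exists_descent τ 2 (by norm_num) (hinj_two τ hτ1) hτ2' g₁ hN
  rw [hg₁] at hP
  -- the matrix identities
  have hgt := eq_smul_transpose_of_unitary τ q hq hτ2 g hg z hz
  have hgt' : (g : Mn)ᵀ = ((z⁻¹ : Fˣ) : F) • (g : Mn) := by
    conv_rhs => rw [hgt]
    rw [smul_smul, ← Units.val_mul, inv_mul_cancel, Units.val_one, one_smul]
  obtain ⟨A, hA⟩ : ∃ A : Mn, A = (P : Mn) := ⟨_, rfl⟩
  obtain ⟨At, hAt⟩ : ∃ At : Mn, At = A.map τ := ⟨_, rfl⟩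
  have hAtt : At.map τ = A := by
    rw [hAt]
    ext i j
    exact DFunLike.congr_fun hτ2 (A i j)
  have hAeq : A = (ε : F) • ((g : Mn) * At) := by
    have := congrArg (fun x : GLn => (x : Mn)) hP
    simp only [Units.val_mul, scl_coe', sG_coe] at this
    rw [← hA, ← hAt] at this
    rw [← this, Matrix.smul_mul, Matrix.one_mul, Matrix.smul_mul]
  have hct : ct τ A = Atᵀ := by rw [hAt]; rfl
  obtain ⟨K, hK⟩ : ∃ K : Mn, K = ct τ A * A := ⟨_, rfl⟩
  have hK1 : K = (ε : F) • (Atᵀ * (g : Mn) * At) := by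
    rw [hK, hct]
    conv_lhs => rw [hAeq]
    rw [Matrix.mul_smul, Matrix.mul_assoc]
  have hK2 : K.map τ = ((z⁻¹ : Fˣ) : F) • K := by
    have h1 : K.map τ = Aᵀ * At := by
      rw [hK, hct, Matrix.map_mul, ← hAt, Matrix.transpose_map, hAtt]
    have h2 : Aᵀ = ((ε : F) * ((z⁻¹ : Fˣ) : F)) • (Atᵀ * (g : Mn)) := by
      conv_lhs => rw [hAeq]
      rw [Matrix.transpose_smul, Matrix.transpose_mul, hgt', Matrix.mul_smul, smul_smul]
    rw [h1, h2, hK1, Matrix.smul_mul, smul_smul, mul_comm]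
  -- the Hermitian matrix `P^* P` as an element of `GL`
  obtain ⟨Kg, hKg⟩ : ∃ Kg : GLn, Kg = (thG τ P)⁻¹ * P := ⟨_, rfl⟩
  have hKgc : (Kg : Mn) = K := by
    rw [hKg, Units.val_mul, thG_inv_coe, hK, hA]
  have hKtw : sG τ Kg = scl z⁻¹ * Kg := by
    apply Units.ext
    rw [sG_coe, scl_coe, hKgc, hK2]
  obtain ⟨x, hx⟩ := exists_pair_of_twisted ι τ hι hτ2 hτ1 hn Kg z⁻¹ hKtw
  have hKx : K = (x.1 : F) • (x.2 : M₀).map ι := by
    rw [← hKgc, ← hx, pairHom_coe]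
  -- `K` is Hermitian
  have hKh : ct τ K = K := by
    rw [hK, ct_mul, ct_ct τ hτ2]
  have h5 : (((x.1 : F))⁻¹ * τ (x.1 : F)) • ((x.2 : M₀)ᵀ).map ι = (x.2 : M₀).map ι := by
    have h6 : τ (x.1 : F) • ((x.2 : M₀)ᵀ).map ι = (x.1 : F) • (x.2 : M₀).map ι := by
      rw [← ct_pair ι τ hι', ← hKx, hKh]
    rw [← smul_smul, h6, smul_smul, inv_mul_cancel₀ x.1.ne_zero, one_smul]
  obtain ⟨d, hd⟩ := exists_smul_eq_of_map ι hn _ _ x.2 h5
  refine ⟨P, ε, x.1, x.2, d, hP, ?_, hd.symm⟩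
  rw [← hA, ← hK, hKx]

end glP4

section guP4

open Cfsg.Agent.Lib.Helper9.APSU

variable {F : Type*} [Field F] [Fintype F] {q : ℕ} (hF : Fintype.card F = q ^ 2) (n : ℕ)
  {F₀ : Type*} [Field F₀]

set_option quotPrecheck false
local notation "Mn" => Matrix (Fin n) (Fin n) F
local notation "M₀" => Matrix (Fin n) (Fin n) F₀
local notation "GLn" => GL (Fin n) F
local notation "GUn" => ↥(Cfsg.GU n F q)
local notation "PSUn" => Cfsg.PSU n F q
local notation "PSL₀" => Matrix.ProjectiveSpecialLinearGroup (Fin n) F₀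
local notation "scl" => Matrix.GeneralLinearGroup.scalar (Fin n)

/-- the relation between an automorphism of `PSU_n(q)` of the form `cU g * fU τ` and an
invertible matrix over the fixed field: `g = ε⁻¹ P τ(P)⁻¹` with `P^* P = κ ι(S₀)` -/
def GraphRel (τ : RingAut F) (ι : F₀ →+* F) (γ : MulAut PSUn) (S₀ : GL (Fin n) F₀) : Prop :=
  ∃ (g : GUn) (P : GLn) (ε κ : Fˣ), γ = cU n g * fU n τ ∧
    scl ε * (g : GLn) * sG τ P = P ∧
    ct τ (P : Mn) * (P : Mn) = (κ : F) • (S₀ : M₀).map ι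

include hF in
/-- related automorphisms have isomorphic centralizers in the inner-diagonal groups -/
theorem graphRel_cent (hn : 3 ≤ n) (τ : RingAut F)
    (hτq : ∀ x : F, τ x = x ^ q) (hτ2 : τ * τ = 1) (hτ1 : τ ≠ 1) (ι : F₀ →+* F)
    (hι : ∀ a : F, τ a = a ↔ a ∈ Set.range ι) (γ : MulAut PSUn) (S₀ : GL (Fin n) F₀)
    (h : GraphRel n τ ι γ S₀) :
    Nonempty (↥(Cfsg.inndiagPSU n F q ⊓ Subgroup.centralizer {γ}) ≃*
      ↥(Cfsg.inndiagPSL n F₀ ⊓ Subgroup.centralizer {gB S₀})) := by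
  obtain ⟨g, P, ε, κ, rfl, hgP, hPS⟩ := h
  rw [inndiagPSU_eq n]
  obtain ⟨e1⟩ := exists_cent_equivP hF n hn τ hτq hτ2 hτ1 ι hι g P ε κ S₀ hgP hPS
  obtain ⟨e2⟩ := cent_gB_equiv (F := F₀) (by omega : 2 ≤ n) S₀
  exact ⟨e1.trans e2.symm⟩

include hF in
/-- related automorphisms are conjugate simultaneously -/
theorem graphRel_conj (hn : 3 ≤ n) (τ : RingAut F)
    (hτq : ∀ x : F, τ x = x ^ q) (hτ2 : τ * τ = 1) (hτ1 : τ ≠ 1) (ι : F₀ →+* F)
    (hι : ∀ a : F, τ a = a ↔ a ∈ Set.range ι) (γ γ' : MulAut PSUn) (S₀ S₀' : GL (Fin n) F₀)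
    (h : GraphRel n τ ι γ S₀) (h' : GraphRel n τ ι γ' S₀') :
    IsConjUnder (Cfsg.inndiagPSU n F q) γ γ' ↔
      IsConjUnder (Cfsg.inndiagPSL n F₀) (gB S₀) (gB S₀') := by
  obtain ⟨g, P, ε, κ, rfl, hgP, hPS⟩ := h
  obtain ⟨g', P', ε', κ', rfl, hgP', hPS'⟩ := h'
  rw [inndiagPSU_eq n, isConjUnder_gB_iff (by omega : 2 ≤ n),
    isConjUnder_iffP hF n hn τ hτq hτ2 hτ1 ι hι g g' P P' ε ε' κ κ' S₀ S₀' hgP hPS hgP' hPS']

include hF in
/-- **every involutory graph automorphism of `PSU_n(q)` is related to an involutory graph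
automorphism of `PSL_n(q)`** -/
theorem exists_graphRel_of_graphAut [Fintype F₀] (τ : RingAut F)
    (hτq : ∀ x : F, τ x = x ^ q) (hτ2 : τ * τ = 1) (hτ1 : τ ≠ 1) (ι : F₀ →+* F)
    (hι : ∀ a : F, τ a = a ↔ a ∈ Set.range ι) (γ : MulAut PSUn)
    (hγ : Cfsg.IsGraphAutClassPSU γ) (hγ2 : orderOf γ = 2) :
    ∃ S₀ : GL (Fin n) F₀, GraphRel n τ ι γ S₀ ∧ Cfsg.IsGraphAutClassPSL (gB S₀) ∧
      orderOf (gB S₀) = 2 := by
  obtain ⟨hn, δ, φ, σ, hev, hδ, hφ, rfl⟩ := hγ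
  have hn0 : 0 < n := by omega
  obtain ⟨g, rfl⟩ := eq_cU_of_innerDiagonal n hδ
  have hφ' : φ = fU n σ := eq_fU_of_fieldAut n hφ
  rw [hφ'] at hγ2 ⊢
  obtain ⟨σ', hσ'⟩ : ∃ σ' : RingAut F, σ' = σ := ⟨σ, rfl⟩
  rw [← hσ'] at hγ2 hev ⊢
  have hsq : (cU n g * fU n σ') ^ 2 = 1 := by
    rw [← hγ2, pow_orderOf_eq_one]
  rw [pow_cU_fU] at hsq
  have hσ2 : σ' ^ 2 = 1 := by
    have h1 : cU n (NkU n σ' g 2) * fU n (σ' ^ 2) = cU n 1 * fU n 1 := by
      rw [hsq, map_one, map_one, one_mul]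
    exact std_unique hF n hn h1
  have hσ1 : σ' ≠ 1 := by
    rintro rfl
    rw [orderOf_one] at hev
    exact absurd hev (by decide)
  have hστ : σ' = τ := ringAut_involution_unique σ' τ (by rw [← pow_two, hσ2]) hσ1 hτ2 hτ1
  rw [hστ] at hsq ⊢
  rw [← pow_two] at hτ2
  rw [hτ2, map_one, mul_one] at hsq
  rw [pow_two] at hτ2
  obtain ⟨z, hz⟩ := exists_scalar_of_mem_ker hF n hn (MonoidHom.mem_ker.mpr hsq)
  rw [NkU_coe, Nk_succ, Nk_succ, Nk_zero, map_one, mul_one] at hz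
  obtain ⟨P, ε, κ, S₀, d, hgP, hPS, hd⟩ :=
    exists_data_of_unitary ι τ q hτq hι hτ2 hτ1 hn0 (g : GLn) g.2 z hz
  refine ⟨S₀, ⟨g, P, ε, κ, rfl, hgP, hPS⟩, isGraphAutClass_gB hn S₀, ?_⟩
  obtain ⟨p₀, hp₀⟩ := CharP.exists F₀
  have hpp₀ : p₀.Prime := CharP.char_is_prime F₀ p₀
  have : Fact p₀.Prime := ⟨hpp₀⟩
  rw [orderOf_gB_eq_two_iff p₀ hn, gB_sq_eq_one_iff (by omega : 2 ≤ n)]
  exact ⟨d, hd⟩

end guP4

end Cfsg.Agent.Lib.Helper5.PsuGraph
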