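import Mathlib
import Cfsg.Prelude
import Cfsg.Agent.Lib.Helper5.PsuGraph.Transfer4
import Cfsg.Agent.Lib.Helper5.PslGraph.OddDimMain
import Cfsg.Agent.Lib.Helper9.APSL27

/-! Involutory graph automorphisms of `PSU_n(q)`, `n` odd: one class, centralizer `PGO_n(q)`. -/

set_option autoImplicit false
open Cfsg

namespace Cfsg.Agent.Lib.Helper5.PsuGraph

open Matrix

open Cfsg.Agent.Lib.Helper5.PslGraph

section setup

/-- the involution of a field with `q²` elements and an embedding of a field with `q` elements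
onto its fixed field -/
theorem exists_setup {F : Type*} [Field F] [Fintype F] {q : ℕ} (hF : Fintype.card F = q ^ 2)
    (F₀ : Type*) [Field F₀] [Fintype F₀] (hF₀ : Fintype.card F₀ = q) :
    ∃ (τ : RingAut F) (ι : F₀ →+* F), (∀ x : F, τ x = x ^ q) ∧ τ * τ = 1 ∧ τ ≠ 1 ∧
      ∀ a : F, τ a = a ↔ a ∈ Set.range ι := by
  classical
  obtain ⟨τ, hτq, hτ2, hτ1⟩ := Cfsg.Agent.Lib.Helper9.APSU.exists_tau hF
  obtain ⟨p, hp⟩ := CharP.exists F
  have hpp : p.Prime := CharP.char_is_prime F p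
  have : Fact p.Prime := ⟨hpp⟩
  obtain ⟨f', _, hF'⟩ := FiniteField.card F p
  have hq2 : q ^ 2 = p ^ (f' : ℕ) := by rw [← hF, hF']
  have hqdvd : q ∣ p ^ (f' : ℕ) := by
    rw [← hq2]
    exact dvd_pow_self q (by norm_num)
  obtain ⟨j, hj, hqj⟩ := (Nat.dvd_prime_pow hpp).1 hqdvd
  have hf'j : (f' : ℕ) = 2 * j := by
    rw [hqj, ← pow_mul] at hq2
    have := Nat.pow_right_injective hpp.two_le hq2
    omega
  have hF₀' : Fintype.card F₀ = p ^ ((f' : ℕ) / 2) := by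
    rw [hF₀, hqj, hf'j, Nat.mul_div_cancel_left _ (by norm_num)]
  obtain ⟨_, ι, hι⟩ := Cfsg.Agent.Lib.Helper9.APSL.exists_fixed_embedding p (f' : ℕ) hF' τ 2
    (by norm_num) (Cfsg.Agent.Lib.Helper9.APSL.orderOf_involution hτ1 hτ2) F₀ hF₀'
  exact ⟨τ, ι, hτq, hτ2, hτ1, hι⟩

end setup

section oddmain

variable {F : Type*} [Field F] [Fintype F] {q : ℕ}

/-- **involutory graph automorphisms of `PSU_n(q)`, `n` odd** -/
theorem psu_graph_classes_odd_dim (hF : Fintype.card F = q ^ 2) {n : ℕ} (hn : 3 ≤ n) {m : ℕ}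
    (hnm : n = 2 * m + 1) (F₀ : Type*) [Field F₀] [Fintype F₀] (hF₀ : Fintype.card F₀ = q)
    (γ γ' : MulAut (Cfsg.PSU n F q)) (hγ : Cfsg.IsGraphAutClassPSU γ) (hγ2 : orderOf γ = 2)
    (hγ' : Cfsg.IsGraphAutClassPSU γ') (hγ'2 : orderOf γ' = 2) :
    Nonempty (↥(Cfsg.inndiagPSU n F q ⊓ Subgroup.centralizer {γ}) ≃*
      Cfsg.PGO F₀ (Cfsg.quadFormOdd m F₀)) ∧ Cfsg.IsConjUnder (Cfsg.inndiagPSU n F q) γ γ' := by
  obtain ⟨τ, ι, hτq, hτ2, hτ1, hι⟩ := exists_setup hF F₀ hF₀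
  obtain ⟨S₀, hrel, hgr, hord⟩ := exists_graphRel_of_graphAut hF n τ hτq hτ2 hτ1 ι hι γ hγ hγ2
  obtain ⟨S₀', hrel', hgr', hord'⟩ :=
    exists_graphRel_of_graphAut hF n τ hτq hτ2 hτ1 ι hι γ' hγ' hγ'2
  obtain ⟨⟨e⟩, hc⟩ := graph_classes_odd_dim (F := F₀) hn hnm (gB S₀) (gB S₀') hgr hord hgr' hord'
  obtain ⟨e1⟩ := graphRel_cent hF n hn τ hτq hτ2 hτ1 ι hι γ S₀ hrel
  exact ⟨⟨e1.trans e⟩, (graphRel_conj hF n hn τ hτq hτ2 hτ1 ι hι γ γ' S₀ S₀' hrel hrel').mpr hc⟩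

end oddmain

end Cfsg.Agent.Lib.Helper5.PsuGraph
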