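import Mathlib
import Cfsg.Prelude
import Cfsg.Agent.Lib.Helper5.PsuGraph.TransferOdd

/-! Transfer of involutory graph automorphisms from `PSU_n(q)` to `PSL_n(q)`, part 5: every
symmetric or skew-symmetric invertible matrix over the fixed field is attached to an involutory
graph automorphism of `PSU_n(q)`. -/

set_option autoImplicit false
open Cfsg

namespace Cfsg.Agent.Lib.Helper5.PsuGraph

open Matrix

open Cfsg.Agent.Lib.Helper9.APSL (sG sG_coe sG_one sG_mul uA uA_coe uA_one uA_mul nrm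
  nrm_apply nrm_two sG_scalar exists_field_h90 norm_surjective ct ct_apply ct_mul ct_smul ct_ct
  ct_one mem_GU_iff glmap_coe
  sG_glmap exists_glmap_eq scalar_eq_one hinj_two glmap_mem_center_iff sG_pow_of_scalar
  mem_cent_single orderOf_involution tI tI_coe tI_inv_coe sG_tI Nk Nk_zero Nk_succ exists_descent
  exists_hermitian_sqrt)

open Cfsg.Agent.Lib.Helper9.APSU (thG thG_apply thG_inv_coe mem_GU_iff_thG sc_comm scalar_inj
  thG_scalar)

open Cfsg.Agent.Lib.Helper5.PslGraph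

section glP5

variable {F : Type*} [Field F] {n : ℕ} {F₀ : Type*} [Field F₀]

local notation "Mn" => Matrix (Fin n) (Fin n) F
local notation "M₀" => Matrix (Fin n) (Fin n) F₀
local notation "GLn" => GL (Fin n) F
local notation "scl" => Matrix.GeneralLinearGroup.scalar (Fin n)

/-- `g = ε⁻¹ P τ(P)⁻¹` satisfies `g τ(g) = N(ε)⁻¹` -/
theorem mul_sG_of_descent (τ : RingAut F) (hτ2 : τ * τ = 1) (g P : GLn) (ε : Fˣ)
    (hgP : scl ε * g * sG τ P = P) : g * sG τ g = scl (ε * uA τ ε)⁻¹ := by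
  obtain ⟨Y, hY⟩ : ∃ Y : GLn, Y = sG τ P := ⟨_, rfl⟩
  have hYP : sG τ Y = P := by rw [hY, sG_sG τ hτ2]
  rw [← hY] at hgP
  have h1 : sG τ (scl ε * g) * P = Y := by
    have := congrArg (sG τ) hgP
    rwa [map_mul, hYP, ← hY] at this
  have h2 : (scl ε * g) * sG τ (scl ε * g) = 1 := by
    have e1 : scl ε * g = P * Y⁻¹ := by
      rw [← hgP]
      group
    have e2 : sG τ (scl ε * g) = Y * P⁻¹ := by
      rw [← h1]
      group
    rw [e2, e1]
    group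
  rw [map_mul, sG_scalar] at h2
  have h3 : scl ε * g * (scl (uA τ ε) * sG τ g) = scl (ε * uA τ ε) * (g * sG τ g) := by
    calc scl ε * g * (scl (uA τ ε) * sG τ g)
        = scl ε * (g * scl (uA τ ε)) * sG τ g := by group
      _ = scl ε * (scl (uA τ ε) * g) * sG τ g := by rw [sc_comm]
      _ = scl (ε * uA τ ε) * (g * sG τ g) := by
          rw [map_mul]
          group
  rw [h3] at h2
  rw [map_inv]
  exact eq_inv_of_mul_eq_one_right h2

/-- every matrix over the fixed field with `S₀ = c S₀ᵀ` is the form attached to a unitary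
matrix -/
theorem exists_unitary_of_form [Finite F] (ι : F₀ →+* F) (τ : RingAut F) (q : ℕ)
    (hq : ∀ x : F, τ x = x ^ q)
    (hι : ∀ a : F, τ a = a ↔ a ∈ Set.range ι) (hτ2 : τ * τ = 1) (hτ1 : τ ≠ 1) (hn : 0 < n)
    (S₀ : GL (Fin n) F₀) (c : F₀) (hc : (S₀ : M₀) = c • (S₀ : M₀)ᵀ) :
    ∃ (g P : GLn) (ε κ : Fˣ), g ∈ Cfsg.GU n F q ∧ scl ε * g * sG τ P = P ∧
      ct τ (P : Mn) * (P : Mn) = (κ : F) • (S₀ : M₀).map ι := by
  have hι' : ∀ b, τ (ι b) = ι b := fun b => (hι _).mpr ⟨b, rfl⟩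
  have hτ2' : τ ^ 2 = 1 := by rw [pow_two, hτ2]
  have hcc : c * c = 1 := mul_self_eq_one_of_eq_smul_transpose hn S₀ c hc
  have hc0 : c ≠ 0 := by
    rintro rfl
    rw [mul_zero] at hcc
    exact zero_ne_one hcc
  have hιc0 : ι c ≠ 0 := by
    rw [Ne, map_eq_zero]
    exact hc0
  obtain ⟨lamc, hlamc⟩ : ∃ lamc : Fˣ, (lamc : F) = ι c := ⟨Units.mk0 (ι c) hιc0, rfl⟩
  have hlamfix : uA τ lamc = lamc := by
    apply Units.ext
    rw [uA_coe, hlamc, hι']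
  have hlamN : nrm τ 2 lamc = 1 := by
    rw [nrm_two, hlamfix]
    apply Units.ext
    rw [Units.val_mul, hlamc, ← map_mul, hcc, map_one, Units.val_one]
  obtain ⟨κ, hκ⟩ := exists_field_h90 τ 2 (by norm_num) (hinj_two τ hτ1) hτ2' lamc hlamN
  -- the Hermitian matrix `κ ι(S₀)`
  obtain ⟨Kg, hKg⟩ : ∃ Kg : GLn, Kg = pairHom ι (κ, S₀) := ⟨_, rfl⟩
  have hSt : (S₀ : M₀)ᵀ = c • (S₀ : M₀) := by
    conv_lhs => rw [hc]
    rw [Matrix.transpose_smul, Matrix.transpose_transpose]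
  have hKh : ct τ (Kg : Mn) = (Kg : Mn) := by
    rw [hKg, pairHom_coe, ct_pair ι τ hι']
    show τ (κ : F) • ((S₀ : M₀)ᵀ).map ι = (κ : F) • (S₀ : M₀).map ι
    rw [hSt]
    have h1 : ((c • (S₀ : M₀)).map ι : Mn) = ι c • (S₀ : M₀).map ι := by
      ext i j
      simp
    rw [h1, smul_smul]
    congr 1
    have := congrArg (fun u : Fˣ => (u : F)) hκ
    simp only [Units.val_mul, uA_coe, hlamc] at this
    rw [mul_comm]
    exact this
  obtain ⟨h, hh⟩ := exists_hermitian_sqrt τ hτ2 hτ1 Kg hKh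
  obtain ⟨P, hP⟩ : ∃ P : GLn, P = (thG τ h)⁻¹ := ⟨_, rfl⟩
  have hPc : (P : Mn) = ct τ (h : Mn) := by rw [hP, thG_inv_coe]
  have hPS : ct τ (P : Mn) * (P : Mn) = (Kg : Mn) := by
    rw [hPc, ct_ct τ hτ2, hh]
  have hKP : Kg = (thG τ P)⁻¹ * P := by
    apply Units.ext
    rw [Units.val_mul, thG_inv_coe, hPS]
  -- the twisted relation
  obtain ⟨W, hW⟩ : ∃ W : GLn, W = scl (uA τ κ / κ) := ⟨_, rfl⟩
  have hWc : ∀ y : GLn, y * W = W * y := fun y => by rw [hW]; exact sc_comm _ y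
  have hE1 : sG τ Kg = W * Kg := by
    rw [hKg, hW, sG_pairHom ι τ hι']
  obtain ⟨Q, hQ⟩ : ∃ Q : GLn, Q = thG τ P := ⟨_, rfl⟩
  obtain ⟨Y, hY⟩ : ∃ Y : GLn, Y = sG τ P := ⟨_, rfl⟩
  have hQ' : sG τ Q = tI P := by
    rw [hQ, thG_apply, sG_sG τ hτ2]
  have hthY : thG τ Y = tI P := by
    rw [hY, thG_apply, ← sG_tI, sG_sG τ hτ2]
  rw [← hQ] at hKP
  have hE2 : (tI P)⁻¹ * Y = W * (Q⁻¹ * P) := by
    have := hE1
    rw [hKP, map_mul, map_inv, hQ', ← hY] at this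
    exact this
  obtain ⟨g₁, hg₁⟩ : ∃ g₁ : GLn, g₁ = P * Y⁻¹ := ⟨_, rfl⟩
  have hthg₁ : thG τ g₁ = W * g₁ := by
    rw [hg₁, map_mul, map_inv, hthY, ← hQ]
    have h1 : (tI P)⁻¹ = W * (Q⁻¹ * P) * Y⁻¹ := by
      rw [← hE2]
      group
    rw [h1]
    calc Q * (W * (Q⁻¹ * P) * Y⁻¹) = (Q * W) * (Q⁻¹ * P * Y⁻¹) := by group
      _ = (W * Q) * (Q⁻¹ * P * Y⁻¹) := by rw [hWc]
      _ = W * (P * Y⁻¹) := by group
  -- the scalar `ε`
  obtain ⟨ε, hε⟩ := norm_surjective τ 2 (by norm_num) (hinj_two τ hτ1) hτ2' lamc hlamfix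
  rw [nrm_two] at hε
  obtain ⟨g, hg⟩ : ∃ g : GLn, g = (scl ε)⁻¹ * g₁ := ⟨_, rfl⟩
  have hgU : g ∈ Cfsg.GU n F q := by
    rw [mem_GU_iff_thG τ q hq, hg, map_mul, map_inv, thG_scalar, map_inv, inv_inv, hthg₁, hW,
      ← mul_assoc, ← map_mul, ← map_inv]
    congr 2
    have h2 : uA τ κ / κ = lamc⁻¹ := by
      rw [div_eq_iff_eq_mul]
      conv_rhs => rw [← hκ]
      rw [inv_mul_cancel_left]
    rw [h2, ← hε, _root_.mul_inv_rev, mul_inv_cancel_left]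
  refine ⟨g, P, ε, κ, hgU, ?_, ?_⟩
  · rw [hg, ← hY, hg₁]
    group
  · rw [hPS, hKg, pairHom_coe]

end glP5

section guP5

open Cfsg.Agent.Lib.Helper9.APSU

variable {F : Type*} [Field F] [Fintype F] {q : ℕ} (hF : Fintype.card F = q ^ 2) (n : ℕ)
  {F₀ : Type*} [Field F₀]

set_option quotPrecheck false
local notation "Mn" => Matrix (Fin n) (Fin n) F
local notation "M₀" => Matrix (Fin n) (Fin n) F₀
local notation "GLn" => GL (Fin n) F
local notation "GUn" => ↥(Cfsg.GU n F q)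
local notation "PSUn" => Cfsg.PSU n F q
local notation "scl" => Matrix.GeneralLinearGroup.scalar (Fin n)

include hF in
/-- an automorphism related to a matrix over the fixed field is an involutory graph
automorphism -/
theorem graphAut_of_graphRel (hn : 3 ≤ n) (τ : RingAut F) (hτ2 : τ * τ = 1) (hτ1 : τ ≠ 1)
    (ι : F₀ →+* F) (γ : MulAut PSUn) (S₀ : GL (Fin n) F₀) (h : GraphRel n τ ι γ S₀) :
    Cfsg.IsGraphAutClassPSU γ ∧ orderOf γ = 2 := by
  obtain ⟨g, P, ε, κ, rfl, hgP, -⟩ := h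
  constructor
  · refine ⟨hn, cU n g, fU n τ, τ, ?_, isInnerDiagonal_cU n g, isFieldAut_fU n τ, rfl⟩
    have : orderOf (τ : F ≃+* F) = 2 := orderOf_involution hτ1 hτ2
    rw [this]
    exact even_two
  · apply orderOf_involution
    · intro h1
      have h2 : cU n g * fU n τ = cU n 1 * fU n 1 := by
        rw [h1, map_one, map_one, one_mul]
      exact hτ1 (std_unique hF n hn h2)
    · rw [← pow_two, pow_cU_fU, pow_two, hτ2, map_one, mul_one]
      refine cU_of_scalar hF n hn _ (ε * uA τ ε)⁻¹ ?_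
      rw [NkU_coe, Nk_succ, Nk_succ, Nk_zero, map_one, mul_one]
      exact mul_sG_of_descent τ hτ2 (g : GLn) P ε hgP

include hF in
/-- **every involutory graph automorphism of `PSL_n(q)` is related to an involutory graph
automorphism of `PSU_n(q)`** -/
theorem exists_graphAut_of_form (hn : 3 ≤ n) (τ : RingAut F)
    (hτq : ∀ x : F, τ x = x ^ q) (hτ2 : τ * τ = 1) (hτ1 : τ ≠ 1) (ι : F₀ →+* F)
    (hι : ∀ a : F, τ a = a ↔ a ∈ Set.range ι) (S₀ : GL (Fin n) F₀) (c : F₀)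
    (hc : (S₀ : M₀) = c • (S₀ : M₀)ᵀ) :
    ∃ γ : MulAut PSUn, GraphRel n τ ι γ S₀ ∧ Cfsg.IsGraphAutClassPSU γ ∧ orderOf γ = 2 := by
  obtain ⟨g, P, ε, κ, hg, hgP, hPS⟩ :=
    exists_unitary_of_form ι τ q hτq hι hτ2 hτ1 (by omega : 0 < n) S₀ c hc
  have hrel : GraphRel n τ ι (cU n ⟨g, hg⟩ * fU n τ) S₀ := ⟨⟨g, hg⟩, P, ε, κ, rfl, hgP, hPS⟩
  exact ⟨_, hrel, graphAut_of_graphRel hF n hn τ hτ2 hτ1 ι _ S₀ hrel⟩

end guP5

end Cfsg.Agent.Lib.Helper5.PsuGraph
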