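import Mathlib
import Cfsg.Prelude
import Cfsg.Agent.Lib.Helper9.APSU31
import Cfsg.Agent.Lib.Helper5.PsuGraph.Transfer5

/-! Class splitting for `PSU_n(q)`, part 1: the number of classes into which the inner-diagonal
class of an automorphism splits, as an index in the norm-one group. -/

set_option autoImplicit false
open Cfsg

namespace Cfsg.Agent.Lib.Helper5.PsuGraph

open Matrix

open Cfsg.Agent.Lib.Helper9.APSL (sG sG_coe sG_one sG_mul uA uA_coe uA_one uA_mul nrm
  nrm_apply nrm_two sG_scalar ct ct_apply mem_GU_iff glmap_coe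
  mem_cent_single nrmOne mem_nrmOne det_mem_nrmOne index_sup_pow splitClassCount_range)

open Cfsg.Agent.Lib.Helper9.APSU

section gu

variable {F : Type*} [Field F] [Fintype F] {q : ℕ} (hF : Fintype.card F = q ^ 2) (n : ℕ)

set_option quotPrecheck false
local notation "Mn" => Matrix (Fin n) (Fin n) F
local notation "GLn" => GL (Fin n) F
local notation "GUn" => ↥(Cfsg.GU n F q)
local notation "PSUn" => Cfsg.PSU n F q
local notation "scl" => Matrix.GeneralLinearGroup.scalar (Fin n)

section tau
variable (τ : RingAut F) (hτq : ∀ x : F, τ x = x ^ q)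

include hF in
/-- the kernel of `GU → Out(PSU)` has determinants in the `n`-th powers -/
theorem ker_psiU_le (hn : 3 ≤ n) :
    (psiU (F := F) (q := q) n).ker ≤
      ((powMonoidHom n : ↥(nrmOne τ) →* ↥(nrmOne τ)).range).comap (detU n τ hτq) := by
  have hn0 : 0 < n := by omega
  rw [psiU_ker hF n hn]
  apply sup_le
  · intro s hs
    rw [Subgroup.mem_subgroupOf, MonoidHom.mem_ker] at hs
    rw [Subgroup.mem_comap]
    have : detU n τ hτq s = 1 := Subtype.ext hs
    rw [this]
    exact one_mem _
  · intro z hz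
    obtain ⟨u, hu⟩ := exists_scalar_of_mem_ker hF n hn (center_le_ker_cU n hz)
    have hu1 : u ∈ nrmOne τ := (mem_nrmOne τ u).mpr
      (nrm_of_scl_mem_GU hn0 τ q hτq u (by rw [← hu]; exact z.2))
    rw [Subgroup.mem_comap]
    refine ⟨⟨u, hu1⟩, ?_⟩
    apply Subtype.ext
    rw [powMonoidHom_apply, detU_coe, hu, Matrix.GeneralLinearGroup.det_scalar,
      Fintype.card_fin]
    rfl

include hF in
/-- the subgroup of `GU_n` in the definition of the number of classes -/
theorem comap_cent_U (hn : 3 ≤ n) (x : MulAut PSUn) :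
    (Subgroup.centralizer {x} ⊔ Cfsg.Inn PSUn).comap (cU n)
      = (((Subgroup.centralizer {x}).comap (cU (F := F) (q := q) n)).map (detU n τ hτq) ⊔
          (powMonoidHom n : ↥(nrmOne τ) →* ↥(nrmOne τ)).range).comap (detU n τ hτq) := by
  have hn0 : 0 < n := by omega
  ext g
  rw [Subgroup.mem_comap, Subgroup.mem_comap, Subgroup.mem_sup_of_normal_right]
  constructor
  · rintro ⟨c, hc, k, hk, e⟩
    have hcr : c ∈ (cU (F := F) (q := q) n).range := by
      have : c = cU n g * k⁻¹ := by rw [← e, mul_inv_cancel_right]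
      rw [this]
      exact Subgroup.mul_mem _ ⟨g, rfl⟩ (Subgroup.inv_mem _ (inn_le_range_cU n hk))
    obtain ⟨h, rfl⟩ := hcr
    have hk' : cU n (h⁻¹ * g) ∈ Cfsg.Inn PSUn := by
      have : cU n (h⁻¹ * g) = k := by rw [map_mul, map_inv, ← e, inv_mul_cancel_left]
      rw [this]
      exact hk
    have h1 : h⁻¹ * g ∈ (psiU (F := F) (q := q) n).ker := by
      rw [MonoidHom.mem_ker]
      unfold psiU
      rw [MonoidHom.comp_apply, QuotientGroup.mk'_apply, QuotientGroup.eq_one_iff]
      exact hk'
    have h2 : detU n τ hτq g = detU n τ hτq h * detU n τ hτq (h⁻¹ * g) := by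
      rw [← map_mul, mul_inv_cancel_left]
    rw [h2]
    exact Subgroup.mul_mem_sup (Subgroup.mem_map_of_mem _ hc) (ker_psiU_le hF n τ hτq hn h1)
  · intro hg
    obtain ⟨a, ha, b, hb, e⟩ := Subgroup.mem_sup.mp hg
    obtain ⟨c, rfl⟩ := hb
    obtain ⟨H, hH, rfl⟩ := Subgroup.mem_map.mp ha
    refine ⟨cU n H, hH, cU n (H⁻¹ * g), ?_, ?_⟩
    · have h1 : H⁻¹ * g ∈ (psiU (F := F) (q := q) n).ker := by
        rw [psiU_ker hF n hn]
        obtain ⟨Z, hZ⟩ : ∃ Z : GUn, (Z : GLn) = scl (c : Fˣ) :=
          ⟨⟨scl (c : Fˣ), scl_mem_GU τ q hτq c ((mem_nrmOne τ c).mp c.2)⟩, rfl⟩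
        have hZc : Z ∈ Subgroup.center GUn := by
          rw [Subgroup.mem_center_iff]
          intro x
          apply Subtype.ext
          show (x : GLn) * (Z : GLn) = (Z : GLn) * (x : GLn)
          rw [hZ]
          exact sc_comm _ _
        have h3 : H⁻¹ * g = (H⁻¹ * g * Z⁻¹) * Z := by group
        rw [h3]
        refine Subgroup.mul_mem_sup ?_ hZc
        rw [Subgroup.mem_subgroupOf, MonoidHom.mem_ker]
        show Matrix.GeneralLinearGroup.det ((H : GLn)⁻¹ * (g : GLn) * (Z : GLn)⁻¹) = 1
        have hdg : Matrix.GeneralLinearGroup.det (g : GLn) =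
            Matrix.GeneralLinearGroup.det (H : GLn) * (c : Fˣ) ^ n := by
          have h4 := congrArg Subtype.val e
          rw [detU_coe] at h4
          rw [← h4]
          rfl
        rw [map_mul, map_mul, map_inv, map_inv, hdg, hZ,
          Matrix.GeneralLinearGroup.det_scalar, Fintype.card_fin, inv_mul_cancel_left,
          mul_inv_cancel]
      rw [MonoidHom.mem_ker] at h1
      unfold psiU at h1
      rw [MonoidHom.comp_apply, QuotientGroup.mk'_apply, QuotientGroup.eq_one_iff] at h1
      exact h1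
    · rw [← map_mul, mul_inv_cancel_left]

include hF in
/-- **the number of classes** into which the inner-diagonal class of an automorphism of
`PSU_n(q)` splits -/
theorem splitClassCount_U (hn : 3 ≤ n) (x : MulAut PSUn) :
    Cfsg.splitClassCount (Cfsg.inndiagPSU n F q) (Cfsg.Inn PSUn) x
      = (((Subgroup.centralizer {x}).comap (cU (F := F) (q := q) n)).map (detU n τ hτq) ⊔
          (powMonoidHom n : ↥(nrmOne τ) →* ↥(nrmOne τ)).range).index := by
  rw [inndiagPSU_eq n, splitClassCount_range, comap_cent_U hF n τ hτq hn,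
    Subgroup.index_comap_of_surjective _ (detU_surjective n τ hτq (by omega))]

end tau

end gu

end Cfsg.Agent.Lib.Helper5.PsuGraph
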