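import Mathlib
import Cfsg.Prelude
import Cfsg.Agent.Lib.Helper5.PsuGraph.SplitU1

/-! Class splitting for `PSU_n(q)`, part 2: the determinants of the unitary matrices centralizing
a graph automorphism `cU g * fU τ`. -/

set_option autoImplicit false
open Cfsg

namespace Cfsg.Agent.Lib.Helper5.PsuGraph

open Matrix

open Cfsg.Agent.Lib.Helper9.APSL (sG sG_coe sG_one sG_mul uA uA_coe uA_one uA_mul nrm
  nrm_apply nrm_two sG_scalar ct ct_apply mem_GU_iff glmap_coe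
  mem_cent_single nrmOne mem_nrmOne det_mem_nrmOne index_sup_pow splitClassCount_range)

open Cfsg.Agent.Lib.Helper9.APSU

open Cfsg.Agent.Lib.Helper5.PslGraph

section gl
variable {F : Type*} [Field F] {n : ℕ} {F₀ : Type*} [Field F₀]

local notation "Mn" => Matrix (Fin n) (Fin n) F
local notation "M₀" => Matrix (Fin n) (Fin n) F₀
local notation "GLn" => GL (Fin n) F
local notation "scl" => Matrix.GeneralLinearGroup.scalar (Fin n)

theorem det_pairHomP (ι : F₀ →+* F) (P : GLn) (x : Fˣ × GL (Fin n) F₀) :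
    ((pairHomP ι P x : GLn) : Mn).det = (x.1 : F) ^ n * ι ((x.2 : M₀).det) := by
  have h1 : Matrix.GeneralLinearGroup.det (pairHomP ι P x) =
      Matrix.GeneralLinearGroup.det (pairHom ι x) := by
    rw [pairHomP_apply, map_mul, map_mul, map_inv, mul_comm, ← mul_assoc, inv_mul_cancel, one_mul]
  have h2 := congrArg (fun u : Fˣ => (u : F)) h1
  simp only [Matrix.GeneralLinearGroup.val_det_apply] at h2
  rw [h2, pairHom_coe, Matrix.det_smul, Fintype.card_fin]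
  congr 1
  exact (RingHom.map_det ι (x.2 : M₀)).symm

/-- the unitarity condition for a pair whose second component is a similitude -/
theorem pair_cond_iff (ι : F₀ →+* F) (τ : RingAut F) (hn : 0 < n) (S₀ : GL (Fin n) F₀)
    (ν : Fˣ) (T : GL (Fin n) F₀) (c : F₀)
    (hT : (T : M₀)ᵀ * (S₀ : M₀) * (T : M₀) = c • (S₀ : M₀)) :
    (((ν : F) * τ ν) • ((T : M₀)ᵀ * (S₀ : M₀) * (T : M₀)).map ι = (S₀ : M₀).map ι) ↔
      ((ν : F) * τ ν) * ι c = 1 := by
  have h1 : ((ν : F) * τ ν) • ((T : M₀)ᵀ * (S₀ : M₀) * (T : M₀)).map ι =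
      (((ν : F) * τ ν) * ι c) • (S₀ : M₀).map ι := by
    rw [hT]
    ext i j
    simp only [Matrix.smul_apply, Matrix.map_apply, smul_eq_mul, map_mul]
    ring
  rw [h1]
  constructor
  · intro h
    obtain ⟨i, j, hij⟩ := exists_entry_ne_zero hn S₀
    have hιij : ι ((S₀ : M₀) i j) ≠ 0 := by
      rw [Ne, map_eq_zero]
      exact hij
    have h3 := congrFun (congrFun h i) j
    rw [Matrix.smul_apply, Matrix.map_apply, smul_eq_mul] at h3
    exact mul_right_cancel₀ hιij (by rw [h3, one_mul])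
  · intro h
    rw [h, one_smul]

end gl

section gu

variable {F : Type*} [Field F] [Fintype F] {q : ℕ} (hF : Fintype.card F = q ^ 2) (n : ℕ)
  {F₀ : Type*} [Field F₀]

set_option quotPrecheck false
local notation "Mn" => Matrix (Fin n) (Fin n) F
local notation "M₀" => Matrix (Fin n) (Fin n) F₀
local notation "GLn" => GL (Fin n) F
local notation "GUn" => ↥(Cfsg.GU n F q)
local notation "PSUn" => Cfsg.PSU n F q
local notation "scl" => Matrix.GeneralLinearGroup.scalar (Fin n)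

include hF in
/-- the determinant of a unitary matrix centralizing `cU g * fU τ` -/
theorem det_of_cent (hn : 3 ≤ n) (τ : RingAut F) (hτq : ∀ x : F, τ x = x ^ q)
    (hτ2 : τ * τ = 1) (hτ1 : τ ≠ 1) (ι : F₀ →+* F) (hι : ∀ a : F, τ a = a ↔ a ∈ Set.range ι)
    (g : GUn) (P : GLn) (ε κ : Fˣ) (S₀ : GL (Fin n) F₀)
    (hgP : scl ε * (g : GLn) * sG τ P = P)
    (hPS : ct τ (P : Mn) * (P : Mn) = (κ : F) • (S₀ : M₀).map ι)
    (H : GUn) (hH : cU n H ∈ Subgroup.centralizer {cU n g * fU n τ}) :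
    ∃ (ν : Fˣ) (T : GL (Fin n) F₀) (c : F₀ˣ) (u : Fˣ), u ∈ nrmOne τ ∧
      (T : M₀)ᵀ * (S₀ : M₀) * (T : M₀) = (c : F₀) • (S₀ : M₀) ∧
      ((ν : F) * τ ν) * ι c = 1 ∧
      ((H : GLn) : Mn).det = (ν : F) ^ n * ι ((T : M₀).det) * (u : F) ^ n := by
  have hn0 : 0 < n := by omega
  have hι' : ∀ b, τ (ι b) = ι b := fun b => (hι _).mpr ⟨b, rfl⟩
  obtain ⟨x, hx, e⟩ := (cent_iffP hF n hn τ hτq hτ2 hτ1 ι hι g P ε hgP (cU n H)).mp
    ⟨⟨H, rfl⟩, hH⟩
  obtain ⟨Y, hY⟩ : ∃ Y : GUn, Y = ⟨pairHomP ι P x, hx⟩ := ⟨_, rfl⟩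
  rw [← hY] at e
  have hker : H * Y⁻¹ ∈ (cU (F := F) (q := q) n).ker := by
    rw [MonoidHom.mem_ker, map_mul, map_inv, e, mul_inv_cancel]
  obtain ⟨u, hu⟩ := exists_scalar_of_mem_ker hF n hn hker
  have hu1 : u ∈ nrmOne τ := (mem_nrmOne τ u).mpr
    (nrm_of_scl_mem_GU hn0 τ q hτq u (by rw [← hu]; exact (H * Y⁻¹).2))
  have hHY : (H : GLn) = scl u * pairHomP ι P x := by
    have h1 : ((H * Y⁻¹ : GUn) : GLn) = (H : GLn) * (pairHomP ι P x)⁻¹ := by
      rw [hY]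
      rfl
    rw [h1] at hu
    rw [← hu, inv_mul_cancel_right]
  -- the similitude
  have hsim := snd_mem_simP ι τ q hτq hι' hn0 P κ S₀ hPS x hx
  rw [mem_similarityGroup_bf_iff hn0 S₀ x.2] at hsim
  obtain ⟨c, hc⟩ := hsim
  have hc0 : c ≠ 0 := by
    rintro rfl
    rw [zero_smul] at hc
    have h1 := congrArg Matrix.det hc
    rw [Matrix.det_mul, Matrix.det_mul, Matrix.det_transpose] at h1
    have hT : (x.2 : M₀).det ≠ 0 := Matrix.GeneralLinearGroup.det_ne_zero x.2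
    have hS' : (S₀ : M₀).det ≠ 0 := Matrix.GeneralLinearGroup.det_ne_zero S₀
    have : Nonempty (Fin n) := ⟨⟨0, hn0⟩⟩
    rw [Matrix.det_zero] at h1
    exact mul_ne_zero (mul_ne_zero hT hS') hT h1
  have hcond := (pairHomP_mem_GU_iff ι τ q hτq hι' P κ S₀ hPS x).mp hx
  rw [pair_cond_iff ι τ hn0 S₀ x.1 x.2 c hc] at hcond
  refine ⟨x.1, x.2, Units.mk0 c hc0, u, hu1, hc, hcond, ?_⟩
  rw [hHY, Units.val_mul, Matrix.det_mul, det_pairHomP, Matrix.GeneralLinearGroup.coe_scalar,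
    Matrix.scalar_apply, Matrix.det_diagonal, Finset.prod_const, Finset.card_univ,
    Fintype.card_fin]
  ring

include hF in
/-- a unitary matrix centralizing `cU g * fU τ`, with prescribed similitude -/
theorem exists_cent_of_sim (hn : 3 ≤ n) (τ : RingAut F) (hτq : ∀ x : F, τ x = x ^ q)
    (hτ2 : τ * τ = 1) (hτ1 : τ ≠ 1) (ι : F₀ →+* F) (hι : ∀ a : F, τ a = a ↔ a ∈ Set.range ι)
    (g : GUn) (P : GLn) (ε κ : Fˣ) (S₀ : GL (Fin n) F₀)
    (hgP : scl ε * (g : GLn) * sG τ P = P)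
    (hPS : ct τ (P : Mn) * (P : Mn) = (κ : F) • (S₀ : M₀).map ι)
    (ν : Fˣ) (T : GL (Fin n) F₀) (c : F₀)
    (hT : (T : M₀)ᵀ * (S₀ : M₀) * (T : M₀) = c • (S₀ : M₀))
    (hν : ((ν : F) * τ ν) * ι c = 1) :
    ∃ H : GUn, cU n H ∈ Subgroup.centralizer {cU n g * fU n τ} ∧
      ((H : GLn) : Mn).det = (ν : F) ^ n * ι ((T : M₀).det) := by
  have hn0 : 0 < n := by omega
  have hι' : ∀ b, τ (ι b) = ι b := fun b => (hι _).mpr ⟨b, rfl⟩
  have hx : pairHomP ι P (ν, T) ∈ Cfsg.GU n F q := by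
    rw [pairHomP_mem_GU_iff ι τ q hτq hι' P κ S₀ hPS]
    exact (pair_cond_iff ι τ hn0 S₀ ν T c hT).mpr hν
  refine ⟨⟨pairHomP ι P (ν, T), hx⟩, ?_, det_pairHomP ι P (ν, T)⟩
  exact ((cent_iffP hF n hn τ hτq hτ2 hτ1 ι hι g P ε hgP _).mpr ⟨(ν, T), hx, rfl⟩).2

end gu

end Cfsg.Agent.Lib.Helper5.PsuGraph
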