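import Mathlib
import Cfsg.Prelude
import Cfsg.Agent.Lib.Helper5.PsuGraph.SplitU2
import Cfsg.Agent.Lib.Helper5.PslGraph.SimMult

/-! Class splitting for `PSU_n(q)`, part 3: the subgroup of the norm-one group generated by the
determinants of the centralizer of a graph automorphism and the `n`-th powers. -/

set_option autoImplicit false
open Cfsg

namespace Cfsg.Agent.Lib.Helper5.PsuGraph

open Matrix

open Cfsg.Agent.Lib.Helper9.APSL (sG sG_coe sG_one sG_mul uA uA_coe uA_one uA_mul nrm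
  nrm_apply nrm_two sG_scalar ct ct_apply mem_GU_iff glmap_coe exists_field_h90 hinj_two
  mem_cent_single nrmOne mem_nrmOne det_mem_nrmOne index_sup_pow splitClassCount_range)

open Cfsg.Agent.Lib.Helper9.APSU

open Cfsg.Agent.Lib.Helper5.PslGraph

section arith
variable {F : Type*} [Field F] {F₀ : Type*} [Field F₀]

theorem ar_root (ι : F₀ →+* F) (τ : RingAut F) (hι' : ∀ b, τ (ι b) = ι b) (n : ℕ) (ν u : F)
    (a c d : F₀) (ha : a * a = c) (had : a ^ n = d) (hν : ν * τ ν * ι c = 1)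
    (hu : u * τ u = 1) :
    (ν * ι a * u) * τ (ν * ι a * u) = 1 ∧ (ν * ι a * u) ^ n = ν ^ n * ι d * u ^ n := by
  constructor
  · rw [map_mul, map_mul, hι']
    have h1 : ι c = ι a * ι a := by rw [← map_mul, ha]
    rw [h1] at hν
    linear_combination (u * τ u) * hν + hu
  · rw [mul_pow, mul_pow, ← map_pow, had]

theorem ar_even (ι : F₀ →+* F) (τ : RingAut F) (hι' : ∀ b, τ (ι b) = ι b) (m : ℕ) (ν u : F)
    (c : F₀) (hν : ν * τ ν * ι c = 1) (hu : u * τ u = 1) :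
    (ν * ν * ι c * (u * u)) * τ (ν * ν * ι c * (u * u)) = 1 ∧
      (ν * ν * ι c * (u * u)) ^ m = ν ^ (2 * m) * ι (c ^ m) * u ^ (2 * m) := by
  constructor
  · rw [map_mul, map_mul, map_mul, map_mul, hι']
    linear_combination (ν * τ ν * ι c + 1) * (u * τ u) ^ 2 * hν + (u * τ u + 1) * hu
  · rw [mul_pow, mul_pow, ← pow_two, ← pow_two, ← pow_mul, ← pow_mul, map_pow]

theorem exists_nrmOne (τ : RingAut F) (w : F) (hw : w * τ w = 1) :
    ∃ W : ↥(nrmOne τ), ((W : Fˣ) : F) = w := by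
  have hw0 : w ≠ 0 := by
    rintro rfl
    rw [zero_mul] at hw
    exact zero_ne_one hw
  refine ⟨⟨Units.mk0 w hw0, ?_⟩, rfl⟩
  rw [mem_nrmOne]
  apply Units.ext
  rw [Units.val_mul, uA_coe, Units.val_mk0, Units.val_one]
  exact hw

theorem nrmOne_val (τ : RingAut F) (y : ↥(nrmOne τ)) :
    ((y : Fˣ) : F) * τ ((y : Fˣ) : F) = 1 := by
  have h := congrArg Units.val ((mem_nrmOne τ y).mp y.2)
  rwa [Units.val_mul, uA_coe, Units.val_one] at h

theorem mem_pow_range (τ : RingAut F) (m : ℕ) (y : ↥(nrmOne τ)) (w : F) (hw : w * τ w = 1)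
    (h : w ^ m = ((y : Fˣ) : F)) :
    y ∈ (powMonoidHom m : ↥(nrmOne τ) →* ↥(nrmOne τ)).range := by
  obtain ⟨W, hW⟩ := exists_nrmOne τ w hw
  refine ⟨W, ?_⟩
  apply Subtype.ext
  apply Units.ext
  rw [powMonoidHom_apply, Subgroup.coe_pow, Units.val_pow_eq_pow_val, hW, h]

theorem pow_range_le (τ : RingAut F) {n m : ℕ} (hnm : n = 2 * m) :
    (powMonoidHom n : ↥(nrmOne τ) →* ↥(nrmOne τ)).range ≤
      (powMonoidHom m : ↥(nrmOne τ) →* ↥(nrmOne τ)).range := by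
  rintro _ ⟨x, rfl⟩
  refine ⟨x * x, ?_⟩
  rw [powMonoidHom_apply, powMonoidHom_apply, hnm, ← pow_two, ← pow_mul]

/-- `-1` in the norm-one group -/
noncomputable def negOne (τ : RingAut F) : ↥(nrmOne τ) :=
  ⟨-1, by
    rw [mem_nrmOne]
    apply Units.ext
    rw [Units.val_mul, uA_coe, Units.val_neg, Units.val_one, map_neg, map_one, neg_mul_neg,
      one_mul]⟩

theorem negOne_val (τ : RingAut F) : (((negOne τ : ↥(nrmOne τ)) : Fˣ) : F) = -1 := by
  show ((-1 : Fˣ) : F) = -1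
  rw [Units.val_neg, Units.val_one]

theorem orderOf_negOne (τ : RingAut F) (h2 : (2 : F) ≠ 0) : orderOf (negOne τ) = 2 := by
  have : Fact (Nat.Prime 2) := ⟨Nat.prime_two⟩
  apply orderOf_eq_prime
  · apply Subtype.ext
    apply Units.ext
    rw [Subgroup.coe_pow, Units.val_pow_eq_pow_val, negOne_val]
    simp
  · intro h3
    have h4 := congrArg (fun u : ↥(nrmOne τ) => ((u : Fˣ) : F)) h3
    simp only [negOne_val, Subgroup.coe_one, Units.val_one] at h4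
    apply h2
    linear_combination -h4

/-- Hilbert 90 for the norm-one group, with the norm of the solution in the fixed field -/
theorem exists_h90 (ι : F₀ →+* F) (τ : RingAut F)
    (hι : ∀ a : F, τ a = a ↔ a ∈ Set.range ι) (hτ2 : τ * τ = 1) (hτ1 : τ ≠ 1)
    (w : ↥(nrmOne τ)) :
    ∃ (ν : Fˣ) (c : F₀ˣ), ((ν : F) * τ ν) * ι c = 1 ∧ (ν : F) * ν * ι c = ((w : Fˣ) : F) := by
  have hτ2' : τ ^ 2 = 1 := by rw [pow_two, hτ2]
  obtain ⟨ν, hν⟩ := exists_field_h90 τ 2 (by norm_num) (hinj_two τ hτ1) hτ2' (w : Fˣ)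
    (MonoidHom.mem_ker.mp w.2)
  have hν' : ((w : Fˣ) : F) * τ ν = ν := by
    have h := congrArg Units.val hν
    rwa [Units.val_mul, uA_coe] at h
  have hττ : τ (τ (ν : F)) = ν := by
    have h := congrArg (fun s : RingAut F => s (ν : F)) hτ2
    simpa using h
  have hfix : τ (((ν : F) * τ ν)⁻¹) = ((ν : F) * τ ν)⁻¹ := by
    rw [map_inv₀, map_mul, hττ, mul_comm]
  obtain ⟨c₀, hc₀⟩ := (hι _).mp hfix
  have hν0 : (ν : F) ≠ 0 := ν.ne_zero
  have hτν0 : τ (ν : F) ≠ 0 := by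
    rw [Ne, map_eq_zero]
    exact hν0
  have hc₀0 : c₀ ≠ 0 := by
    rintro rfl
    rw [map_zero] at hc₀
    exact (inv_ne_zero (mul_ne_zero hν0 hτν0)) hc₀.symm
  refine ⟨ν, Units.mk0 c₀ hc₀0, ?_, ?_⟩
  · rw [Units.val_mk0, hc₀, mul_inv_cancel₀ (mul_ne_zero hν0 hτν0)]
  · rw [Units.val_mk0, hc₀]
    field_simp
    rw [mul_comm]
    exact hν'.symm

end arith

section gu

variable {F : Type*} [Field F] [Fintype F] {q : ℕ} (hF : Fintype.card F = q ^ 2) (n : ℕ)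
  {F₀ : Type*} [Field F₀]

set_option quotPrecheck false
local notation "Mn" => Matrix (Fin n) (Fin n) F
local notation "M₀" => Matrix (Fin n) (Fin n) F₀
local notation "GLn" => GL (Fin n) F
local notation "GUn" => ↥(Cfsg.GU n F q)
local notation "PSUn" => Cfsg.PSU n F q
local notation "scl" => Matrix.GeneralLinearGroup.scalar (Fin n)

/-- determinants of the unitary matrices centralizing an automorphism -/
noncomputable def detCent (τ : RingAut F) (hτq : ∀ x : F, τ x = x ^ q) (x : MulAut PSUn) :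
    Subgroup ↥(nrmOne τ) :=
  ((Subgroup.centralizer {x}).comap (cU (F := F) (q := q) n)).map (detU n τ hτq)

include hF in
theorem splitClassCount_eq_detCent (hn : 3 ≤ n) (τ : RingAut F) (hτq : ∀ x : F, τ x = x ^ q)
    (x : MulAut PSUn) :
    Cfsg.splitClassCount (Cfsg.inndiagPSU n F q) (Cfsg.Inn PSUn) x
      = (detCent n τ hτq x ⊔ (powMonoidHom n : ↥(nrmOne τ) →* ↥(nrmOne τ)).range).index :=
  splitClassCount_U hF n τ hτq hn x

include hF in
theorem mem_detCent_elim (hn : 3 ≤ n) (τ : RingAut F) (hτq : ∀ x : F, τ x = x ^ q)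
    (hτ2 : τ * τ = 1) (hτ1 : τ ≠ 1) (ι : F₀ →+* F) (hι : ∀ a : F, τ a = a ↔ a ∈ Set.range ι)
    (g : GUn) (P : GLn) (ε κ : Fˣ) (S₀ : GL (Fin n) F₀)
    (hgP : scl ε * (g : GLn) * sG τ P = P)
    (hPS : ct τ (P : Mn) * (P : Mn) = (κ : F) • (S₀ : M₀).map ι)
    (y : ↥(nrmOne τ)) (hy : y ∈ detCent n τ hτq (cU n g * fU n τ)) :
    ∃ (ν : Fˣ) (T : GL (Fin n) F₀) (c : F₀ˣ) (u : Fˣ), u ∈ nrmOne τ ∧
      (T : M₀)ᵀ * (S₀ : M₀) * (T : M₀) = (c : F₀) • (S₀ : M₀) ∧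
      ((ν : F) * τ ν) * ι c = 1 ∧
      ((y : Fˣ) : F) = (ν : F) ^ n * ι ((T : M₀).det) * (u : F) ^ n := by
  obtain ⟨H, hH, rfl⟩ := Subgroup.mem_map.mp hy
  rw [Subgroup.mem_comap] at hH
  obtain ⟨ν, T, c, u, hu, hT, hν, hdet⟩ :=
    det_of_cent hF n hn τ hτq hτ2 hτ1 ι hι g P ε κ S₀ hgP hPS H hH
  refine ⟨ν, T, c, u, hu, hT, hν, ?_⟩
  rw [detU_coe, Matrix.GeneralLinearGroup.val_det_apply]
  exact hdet

include hF in
theorem mem_detCent_intro (hn : 3 ≤ n) (τ : RingAut F) (hτq : ∀ x : F, τ x = x ^ q)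
    (hτ2 : τ * τ = 1) (hτ1 : τ ≠ 1) (ι : F₀ →+* F) (hι : ∀ a : F, τ a = a ↔ a ∈ Set.range ι)
    (g : GUn) (P : GLn) (ε κ : Fˣ) (S₀ : GL (Fin n) F₀)
    (hgP : scl ε * (g : GLn) * sG τ P = P)
    (hPS : ct τ (P : Mn) * (P : Mn) = (κ : F) • (S₀ : M₀).map ι)
    (ν : Fˣ) (T : GL (Fin n) F₀) (c : F₀)
    (hT : (T : M₀)ᵀ * (S₀ : M₀) * (T : M₀) = c • (S₀ : M₀))
    (hν : ((ν : F) * τ ν) * ι c = 1) :
    ∃ y : ↥(nrmOne τ), y ∈ detCent n τ hτq (cU n g * fU n τ) ∧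
      ((y : Fˣ) : F) = (ν : F) ^ n * ι ((T : M₀).det) := by
  obtain ⟨H, hH, hdet⟩ :=
    exists_cent_of_sim hF n hn τ hτq hτ2 hτ1 ι hι g P ε κ S₀ hgP hPS ν T c hT hν
  refine ⟨detU n τ hτq H, Subgroup.mem_map_of_mem _ hH, ?_⟩
  rw [detU_coe, Matrix.GeneralLinearGroup.val_det_apply]
  exact hdet

include hF in
/-- odd dimension or characteristic two -/
theorem detCent_le_pow (hn : 3 ≤ n) (τ : RingAut F) (hτq : ∀ x : F, τ x = x ^ q)
    (hτ2 : τ * τ = 1) (hτ1 : τ ≠ 1) (ι : F₀ →+* F) (hι : ∀ a : F, τ a = a ↔ a ∈ Set.range ι)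
    (g : GUn) (P : GLn) (ε κ : Fˣ) (S₀ : GL (Fin n) F₀)
    (hgP : scl ε * (g : GLn) * sG τ P = P)
    (hPS : ct τ (P : Mn) * (P : Mn) = (κ : F) • (S₀ : M₀).map ι)
    (hroot : ∀ (T : GL (Fin n) F₀) (c : F₀ˣ),
      (T : M₀)ᵀ * (S₀ : M₀) * (T : M₀) = (c : F₀) • (S₀ : M₀) →
        ∃ a : F₀, a * a = c ∧ a ^ n = (T : M₀).det) :
    detCent n τ hτq (cU n g * fU n τ) ≤
      (powMonoidHom n : ↥(nrmOne τ) →* ↥(nrmOne τ)).range := by
  have hι' : ∀ b, τ (ι b) = ι b := fun b => (hι _).mpr ⟨b, rfl⟩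
  intro y hy
  obtain ⟨ν, T, c, u, hu, hT, hν, hy'⟩ :=
    mem_detCent_elim hF n hn τ hτq hτ2 hτ1 ι hι g P ε κ S₀ hgP hPS y hy
  obtain ⟨a, ha, had⟩ := hroot T c hT
  have huu : (u : F) * τ u = 1 := nrmOne_val τ ⟨u, hu⟩
  obtain ⟨h1, h2⟩ := ar_root ι τ hι' n ν u a c _ ha had hν huu
  exact mem_pow_range τ n y _ h1 (by rw [h2, hy'])

include hF in
/-- symplectic type -/
theorem detCent_sup_skew (hn : 3 ≤ n) (τ : RingAut F) (hτq : ∀ x : F, τ x = x ^ q)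
    (hτ2 : τ * τ = 1) (hτ1 : τ ≠ 1) (ι : F₀ →+* F) (hι : ∀ a : F, τ a = a ↔ a ∈ Set.range ι)
    (g : GUn) (P : GLn) (ε κ : Fˣ) (S₀ : GL (Fin n) F₀)
    (hgP : scl ε * (g : GLn) * sG τ P = P)
    (hPS : ct τ (P : Mn) * (P : Mn) = (κ : F) • (S₀ : M₀).map ι)
    {m : ℕ} (hnm : n = 2 * m)
    (hdet : ∀ (T : GL (Fin n) F₀) (c : F₀ˣ),
      (T : M₀)ᵀ * (S₀ : M₀) * (T : M₀) = (c : F₀) • (S₀ : M₀) → (T : M₀).det = (c : F₀) ^ m)
    (hmult : ∀ c : F₀ˣ, IsMult S₀ c) :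
    detCent n τ hτq (cU n g * fU n τ) ⊔ (powMonoidHom n : ↥(nrmOne τ) →* ↥(nrmOne τ)).range =
      (powMonoidHom m : ↥(nrmOne τ) →* ↥(nrmOne τ)).range := by
  have hι' : ∀ b, τ (ι b) = ι b := fun b => (hι _).mpr ⟨b, rfl⟩
  apply le_antisymm
  · apply sup_le _ (pow_range_le τ hnm)
    intro y hy
    obtain ⟨ν, T, c, u, hu, hT, hν, hy'⟩ :=
      mem_detCent_elim hF n hn τ hτq hτ2 hτ1 ι hι g P ε κ S₀ hgP hPS y hy
    have huu : (u : F) * τ u = 1 := nrmOne_val τ ⟨u, hu⟩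
    obtain ⟨h1, h2⟩ := ar_even ι τ hι' m ν u c hν huu
    apply mem_pow_range τ m y _ h1
    rw [h2, hy', hdet T c hT, ← hnm]
  · rintro _ ⟨w, rfl⟩
    apply Subgroup.mem_sup_left
    obtain ⟨ν, c, hν, hw⟩ := exists_h90 ι τ hι hτ2 hτ1 w
    obtain ⟨T, hT⟩ := hmult c
    obtain ⟨y, hy, hyv⟩ :=
      mem_detCent_intro hF n hn τ hτq hτ2 hτ1 ι hι g P ε κ S₀ hgP hPS ν T c hT hν
    have hyw : y = w ^ m := by
      apply Subtype.ext
      apply Units.ext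
      rw [hyv, Subgroup.coe_pow, Units.val_pow_eq_pow_val, ← hw, hdet T c hT, hnm, map_pow,
        mul_pow, mul_pow, ← pow_two, ← pow_mul, mul_comm m 2]
    rw [powMonoidHom_apply, ← hyw]
    exact hy

theorem negOne_mul_self (τ : RingAut F) : negOne τ * negOne τ = 1 := by
  apply Subtype.ext
  apply Units.ext
  rw [Subgroup.coe_mul, Units.val_mul, negOne_val, Subgroup.coe_one, Units.val_one, neg_mul_neg,
    one_mul]

include hF in
/-- orthogonal types -/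
theorem detCent_sup_sym (hn : 3 ≤ n) (τ : RingAut F) (hτq : ∀ x : F, τ x = x ^ q)
    (hτ2 : τ * τ = 1) (hτ1 : τ ≠ 1) (ι : F₀ →+* F) (hι : ∀ a : F, τ a = a ↔ a ∈ Set.range ι)
    (g : GUn) (P : GLn) (ε κ : Fˣ) (S₀ : GL (Fin n) F₀)
    (hgP : scl ε * (g : GLn) * sG τ P = P)
    (hPS : ct τ (P : Mn) * (P : Mn) = (κ : F) • (S₀ : M₀).map ι)
    {m : ℕ} (hnm : n = 2 * m)
    (hmult : ∀ c : F₀ˣ, IsMult S₀ c)
    (hrefl : ∃ T : GL (Fin n) F₀, (T : M₀)ᵀ * (S₀ : M₀) * (T : M₀) = (S₀ : M₀) ∧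
      (T : M₀).det = -1) :
    detCent n τ hτq (cU n g * fU n τ) ⊔ (powMonoidHom n : ↥(nrmOne τ) →* ↥(nrmOne τ)).range =
      Subgroup.zpowers (negOne τ) ⊔ (powMonoidHom m : ↥(nrmOne τ) →* ↥(nrmOne τ)).range := by
  have hι' : ∀ b, τ (ι b) = ι b := fun b => (hι _).mpr ⟨b, rfl⟩
  have hsign : ∀ (T : GL (Fin n) F₀) (c : F₀ˣ),
      (T : M₀)ᵀ * (S₀ : M₀) * (T : M₀) = (c : F₀) • (S₀ : M₀) →
        (T : M₀).det = (c : F₀) ^ m ∨ (T : M₀).det = -(c : F₀) ^ m := by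
    intro T c hT
    have h1 := det_mul_self_of_sim (S₀ : M₀) (T : M₀) (c : F₀)
      (Matrix.GeneralLinearGroup.det_ne_zero S₀) hT
    rw [Fintype.card_fin] at h1
    have h1' : (c : F₀) ^ n = (c : F₀) ^ m * (c : F₀) ^ m := by
      rw [← pow_add, hnm, two_mul]
    rw [h1'] at h1
    have h3 : ((T : M₀).det - (c : F₀) ^ m) * ((T : M₀).det + (c : F₀) ^ m) = 0 := by
      linear_combination h1
    rcases mul_eq_zero.mp h3 with h | h
    · left
      exact sub_eq_zero.mp h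
    · right
      exact eq_neg_of_add_eq_zero_left h
  -- `-1` is a determinant
  have hneg : negOne τ ∈ detCent n τ hτq (cU n g * fU n τ) := by
    obtain ⟨T, hT, hTd⟩ := hrefl
    obtain ⟨y, hy, hyv⟩ :=
      mem_detCent_intro hF n hn τ hτq hτ2 hτ1 ι hι g P ε κ S₀ hgP hPS 1 T 1
        (by rw [one_smul]; exact hT) (by simp)
    have : y = negOne τ := by
      apply Subtype.ext
      apply Units.ext
      rw [hyv, hTd, negOne_val]
      simp
    rw [← this]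
    exact hy
  apply le_antisymm
  · apply sup_le _ (le_trans (pow_range_le τ hnm) le_sup_right)
    intro y hy
    obtain ⟨ν, T, c, u, hu, hT, hν, hy'⟩ :=
      mem_detCent_elim hF n hn τ hτq hτ2 hτ1 ι hι g P ε κ S₀ hgP hPS y hy
    have huu : (u : F) * τ u = 1 := nrmOne_val τ ⟨u, hu⟩
    obtain ⟨h1, h2⟩ := ar_even ι τ hι' m ν u c hν huu
    rcases hsign T c hT with hd | hd
    · apply Subgroup.mem_sup_right
      apply mem_pow_range τ m y _ h1
      rw [h2, hy', hd, ← hnm]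
    · have hy2 : y = negOne τ * (negOne τ * y) := by
        rw [← mul_assoc, negOne_mul_self, one_mul]
      rw [hy2]
      apply Subgroup.mul_mem_sup (Subgroup.mem_zpowers _)
      apply mem_pow_range τ m _ _ h1
      rw [h2, Subgroup.coe_mul, Units.val_mul, negOne_val, hy', hd, ← hnm, map_neg]
      ring
  · apply sup_le
    · rw [Subgroup.zpowers_le]
      exact Subgroup.mem_sup_left hneg
    · rintro _ ⟨w, rfl⟩
      apply Subgroup.mem_sup_left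
      obtain ⟨ν, c, hν, hw⟩ := exists_h90 ι τ hι hτ2 hτ1 w
      obtain ⟨T, hT⟩ := hmult c
      obtain ⟨y, hy, hyv⟩ :=
        mem_detCent_intro hF n hn τ hτq hτ2 hτ1 ι hι g P ε κ S₀ hgP hPS ν T c hT hν
      have hwm : (((w ^ m : ↥(nrmOne τ)) : Fˣ) : F) = (ν : F) ^ n * ι ((c : F₀) ^ m) := by
        rw [Subgroup.coe_pow, Units.val_pow_eq_pow_val, ← hw, hnm, map_pow, mul_pow, mul_pow,
          ← pow_two, ← pow_mul, mul_comm m 2]
      rw [powMonoidHom_apply]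
      rcases hsign T c hT with hd | hd
      · have hyw : y = w ^ m := by
          apply Subtype.ext
          apply Units.ext
          rw [hyv, hwm, hd]
        rw [← hyw]
        exact hy
      · have hyw : w ^ m = negOne τ * y := by
          apply Subtype.ext
          apply Units.ext
          rw [hwm, Subgroup.coe_mul, Units.val_mul, negOne_val, hyv, hd, map_neg]
          ring
        rw [hyw]
        exact Subgroup.mul_mem _ hneg hy

end gu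

end Cfsg.Agent.Lib.Helper5.PsuGraph
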