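import Mathlib
import Cfsg.Prelude
import Cfsg.Agent.Lib.Helper5.PsuGraph.SplitU3
import Cfsg.Agent.Lib.Helper5.PsuGraph.TransferOdd
import Cfsg.Agent.Lib.Helper5.PslGraph.SplitMain

/-! Class splitting for `PSU_n(q)`, part 4: the number of classes into which the inner-diagonal
class of an involutory graph automorphism splits. -/

set_option autoImplicit false
open Cfsg

namespace Cfsg.Agent.Lib.Helper5.PsuGraph

open Matrix

open Cfsg.Agent.Lib.Helper9.APSL (sG uA uA_coe nrm nrm_two ct nrmOne mem_nrmOne index_sup_pow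
  charP_of_card)

open Cfsg.Agent.Lib.Helper9.APSU

open Cfsg.Agent.Lib.Helper5.PslGraph

section index
variable {F : Type*} [Field F] [Fintype F] {q : ℕ} (hF : Fintype.card F = q ^ 2)
  (τ : RingAut F) (hτq : ∀ x : F, τ x = x ^ q)

include hF hτq in
theorem index_pow_range_U (k : ℕ) :
    (powMonoidHom k : ↥(nrmOne τ) →* ↥(nrmOne τ)).range.index = Nat.gcd k (q + 1) := by
  have h := index_sup_pow (⊥ : Subgroup ↥(nrmOne τ)) k
  rw [bot_sup_eq, Subgroup.card_bot, Nat.div_one, card_nrmOne_tau hF τ hτq] at h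
  exact h

include hF hτq in
theorem index_negOne_sup_pow_U (h2 : (2 : F) ≠ 0) (m : ℕ) :
    (Subgroup.zpowers (negOne τ) ⊔ (powMonoidHom m : ↥(nrmOne τ) →* ↥(nrmOne τ)).range).index =
      Nat.gcd m ((q + 1) / 2) := by
  have h := index_sup_pow (Subgroup.zpowers (negOne τ)) m
  rw [Nat.card_zpowers, orderOf_negOne τ h2, card_nrmOne_tau hF τ hτq] at h
  exact h

end index

section roots
variable {F₀ : Type*} [Field F₀] {n : ℕ}

local notation "M₀" => Matrix (Fin n) (Fin n) F₀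

theorem root_odd {k : ℕ} (hnk : n = 2 * k + 1) (S₀ T : GL (Fin n) F₀) (c : F₀ˣ)
    (hT : (T : M₀)ᵀ * (S₀ : M₀) * (T : M₀) = (c : F₀) • (S₀ : M₀)) :
    ∃ a : F₀, a * a = c ∧ a ^ n = (T : M₀).det := by
  have h1 := det_mul_self_of_sim (S₀ : M₀) (T : M₀) (c : F₀)
    (Matrix.GeneralLinearGroup.det_ne_zero S₀) hT
  rw [Fintype.card_fin] at h1
  have hpow : ∀ a : F₀, a ^ n = a ^ (2 * k + 1) := fun a => by rw [hnk]
  rw [hpow] at h1
  have hc0 : (c : F₀) ≠ 0 := c.ne_zero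
  have hck : (c : F₀) ^ k ≠ 0 := pow_ne_zero _ hc0
  have ha : ((T : M₀).det / (c : F₀) ^ k) * ((T : M₀).det / (c : F₀) ^ k) = c := by
    rw [div_mul_div_comm, h1, pow_succ, pow_mul, pow_two]
    field_simp
    ring
  refine ⟨(T : M₀).det / (c : F₀) ^ k, ha, ?_⟩
  rw [hpow, pow_succ, pow_mul, pow_two, ha, ← mul_div_assoc, mul_comm, mul_div_assoc,
    div_self hck, mul_one]

theorem root_char_two [Fintype F₀] [CharP F₀ 2] (S₀ T : GL (Fin n) F₀) (c : F₀ˣ)
    (hT : (T : M₀)ᵀ * (S₀ : M₀) * (T : M₀) = (c : F₀) • (S₀ : M₀)) :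
    ∃ a : F₀, a * a = c ∧ a ^ n = (T : M₀).det := by
  have h1 := det_mul_self_of_sim (S₀ : M₀) (T : M₀) (c : F₀)
    (Matrix.GeneralLinearGroup.det_ne_zero S₀) hT
  rw [Fintype.card_fin] at h1
  obtain ⟨l, hl⟩ := exists_mul_self_char_two (c : F₀)
  refine ⟨l, hl, ?_⟩
  apply char_two_eq_of_mul_self_eq
  rw [h1, ← hl, mul_pow]

end roots

section main
variable {F : Type*} [Field F] [Fintype F]

/-- **class splitting of involutory graph automorphisms of `PSU_n(q)`** -/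
theorem psu_graph_split {p f q : ℕ} [Fact p.Prime] (hq : q = p ^ f)
    (hF : Fintype.card F = q ^ 2) {n : ℕ} (hn : 3 ≤ n)
    (F₀ : Type*) [Field F₀] [Fintype F₀] (hF₀ : Fintype.card F₀ = q)
    (γ : MulAut (Cfsg.PSU n F q)) (hγ : Cfsg.IsGraphAutClassPSU γ) (hγ2 : orderOf γ = 2) :
    ((Even n ∧ Odd q ∧ Nonempty (↥(Cfsg.inndiagPSU n F q ⊓ Subgroup.centralizer {γ}) ≃*
        Cfsg.PGSp (n / 2) F₀)) →
      Cfsg.splitClassCount (Cfsg.inndiagPSU n F q) (Cfsg.Inn (Cfsg.PSU n F q)) γ =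
        Nat.gcd (n / 2) (q + 1)) ∧
    ((Even n ∧ Odd q ∧ ¬ Nonempty (↥(Cfsg.inndiagPSU n F q ⊓ Subgroup.centralizer {γ}) ≃*
        Cfsg.PGSp (n / 2) F₀)) →
      Cfsg.splitClassCount (Cfsg.inndiagPSU n F q) (Cfsg.Inn (Cfsg.PSU n F q)) γ =
        Nat.gcd n (q + 1) / 2) ∧
    (¬ (Even n ∧ Odd q) →
      Cfsg.splitClassCount (Cfsg.inndiagPSU n F q) (Cfsg.Inn (Cfsg.PSU n F q)) γ =
        Nat.gcd n (q + 1)) := by
  classical
  have hn2 : 2 ≤ n := by omega
  have hn0 : 0 < n := by omega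
  obtain ⟨τ, ι, hτq, hτ2, hτ1, hι⟩ := exists_setup hF F₀ hF₀
  obtain ⟨S₀, hrel, hgr, hord⟩ :=
    exists_graphRel_of_graphAut hF n τ hτq hτ2 hτ1 ι hι γ hγ hγ2
  obtain ⟨e0⟩ := graphRel_cent hF n hn τ hτq hτ2 hτ1 ι hι γ S₀ hrel
  obtain ⟨g, P, ε, κ, rfl, hgP, hPS⟩ := hrel
  have : CharP F₀ p := charP_of_card p f (hF₀.trans hq)
  rw [orderOf_gB_eq_two_iff p hn, gB_sq_eq_one_iff hn2] at hord
  obtain ⟨c, hc⟩ := hord
  rw [splitClassCount_eq_detCent hF n hn τ hτq]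
  -- the even/odd case data
  have key : Even n → Odd q → ∃ m, 2 ≤ m ∧ n = 2 * m ∧ n / 2 = m ∧ Odd (Fintype.card F₀) ∧
      (2 : F₀) ≠ 0 ∧ (2 : F) ≠ 0 ∧
      (((S₀ : Matrix (Fin n) (Fin n) F₀)ᵀ = (S₀ : Matrix (Fin n) (Fin n) F₀)) ∨
        ((S₀ : Matrix (Fin n) (Fin n) F₀)ᵀ = -(S₀ : Matrix (Fin n) (Fin n) F₀))) := by
    intro hev hoddq
    obtain ⟨m, hm⟩ := hev
    have hodd : Odd (Fintype.card F₀) := by
      rw [hF₀]
      exact hoddq
    have hoddF : Odd (Fintype.card F) := by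
      rw [hF]
      exact hoddq.pow
    have h2 : (2 : F₀) ≠ 0 := Cfsg.Agent.Lib.Helper5.two_ne_zero_of_odd_card hodd
    have h2F : (2 : F) ≠ 0 := Cfsg.Agent.Lib.Helper5.two_ne_zero_of_odd_card hoddF
    refine ⟨m, by omega, by omega, by omega, hodd, h2, h2F, ?_⟩
    have hc2 := mul_self_eq_one_of_eq_smul_transpose hn0 S₀ c hc
    have hc' : c = 1 ∨ c = -1 := by
      have h5 : (c - 1) * (c + 1) = 0 := by linear_combination hc2
      rcases mul_eq_zero.mp h5 with h6 | h6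
      · left
        exact sub_eq_zero.mp h6
      · right
        exact eq_neg_of_add_eq_zero_left h6
    rcases hc' with hc1 | hc1
    · left
      rw [hc1, one_smul] at hc
      exact hc.symm
    · right
      rw [hc1, neg_smul, one_smul] at hc
      conv_rhs => rw [hc]
      rw [neg_neg]
  refine ⟨?_, ?_, ?_⟩
  · rintro ⟨hev, hoddq, ⟨e⟩⟩
    obtain ⟨m, hm, hnm, hdiv, hodd, h2, h2F, hS | hS⟩ := key hev hoddq
    · exfalso
      rw [hdiv] at e
      exact (split_count_sym hodd hm hnm S₀ hS).2 ⟨e0.symm.trans e⟩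
    · rw [hdiv, detCent_sup_skew hF n hn τ hτq hτ2 hτ1 ι hι g P ε κ S₀ hgP hPS hnm
        (fun T c hT => det_eq_pow_of_skew h2 hnm hn2 S₀ hS T c hT)
        (fun c => isMult_of_skew h2 hnm hn2 S₀ hS c), index_pow_range_U hF τ hτq]
  · rintro ⟨hev, hoddq, hiso⟩
    obtain ⟨m, hm, hnm, hdiv, hodd, h2, h2F, hS | hS⟩ := key hev hoddq
    · rw [detCent_sup_sym hF n hn τ hτq hτ2 hτ1 ι hι g P ε κ S₀ hgP hPS hnm
        (fun c => isMult_of_sym hodd (by omega) hnm S₀ hS c)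
        (exists_isometry_det_neg_one hn0 h2 S₀ hS), index_negOne_sup_pow_U hF τ hτq h2F]
      obtain ⟨t, ht⟩ := hoddq
      have h5 : q + 1 = 2 * (t + 1) := by omega
      rw [h5, hnm, Nat.gcd_mul_left, Nat.mul_div_cancel_left _ (by norm_num : 0 < 2),
        Nat.mul_div_cancel_left _ (by norm_num : 0 < 2)]
    · exfalso
      rw [hdiv] at hiso
      obtain ⟨e1⟩ := skew_cent h2 hnm hn2 S₀ hS
      exact hiso ⟨e0.trans e1⟩
  · intro hne
    have hle : detCent n τ hτq (cU n g * fU n τ) ≤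
        (powMonoidHom n : ↥(nrmOne τ) →* ↥(nrmOne τ)).range := by
      apply detCent_le_pow hF n hn τ hτq hτ2 hτ1 ι hι g P ε κ S₀ hgP hPS
      by_cases hev : Even n
      · have hq' : ¬ Odd q := fun h => hne ⟨hev, h⟩
        have hp2 : p = 2 := by
          rcases (Fact.out : p.Prime).eq_two_or_odd' with h | h
          · exact h
          · exfalso
            apply hq'
            rw [hq]
            exact h.pow
        subst hp2
        intro T c hT
        exact root_char_two S₀ T c hT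
      · rw [Nat.not_even_iff_odd] at hev
        obtain ⟨k, hk⟩ := hev
        intro T c hT
        exact root_odd hk S₀ T c hT
    rw [sup_eq_right.mpr hle, index_pow_range_U hF τ hτq]

end main

end Cfsg.Agent.Lib.Helper5.PsuGraph
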