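import Mathlib
import Cfsg.Prelude
import Cfsg.Agent.Lib.Helper5.PsuGraph.Transfer5
import Cfsg.Agent.Lib.Helper5.PslGraph.GraphMain
import Cfsg.Agent.Lib.Helper5.PslGraph.CharTwoMain

/-! Involutory graph automorphisms of `PSU_n(q)`, `n` even: the classes and centralizers, by
transfer from `PSL_n(q)`. -/

set_option autoImplicit false
open Cfsg

namespace Cfsg.Agent.Lib.Helper5.PsuGraph

open Matrix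

open Cfsg.Agent.Lib.Helper5.PslGraph

section evenmain

variable {F : Type*} [Field F] [Fintype F] {q : ℕ}

/-- an involutory graph automorphism of `PSL_n(F₀)` is related to one of `PSU_n(q)` -/
theorem exists_graphAut_of_graphAutPSL (hF : Fintype.card F = q ^ 2) {n : ℕ} (hn : 3 ≤ n)
    {F₀ : Type*} [Field F₀] [Fintype F₀] (τ : RingAut F)
    (hτq : ∀ x : F, τ x = x ^ q) (hτ2 : τ * τ = 1) (hτ1 : τ ≠ 1) (ι : F₀ →+* F)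
    (hι : ∀ a : F, τ a = a ↔ a ∈ Set.range ι)
    (γ₀ : MulAut (Matrix.ProjectiveSpecialLinearGroup (Fin n) F₀))
    (hγ₀ : Cfsg.IsGraphAutClassPSL γ₀) (hγ₀2 : orderOf γ₀ = 2) :
    ∃ (S₀ : GL (Fin n) F₀) (γ : MulAut (Cfsg.PSU n F q)), γ₀ = gB S₀ ∧ GraphRel n τ ι γ S₀ ∧
      Cfsg.IsGraphAutClassPSU γ ∧ orderOf γ = 2 := by
  obtain ⟨S₀, rfl⟩ := exists_gB_of_graphAutClass hγ₀
  obtain ⟨p₀, hp₀⟩ := CharP.exists F₀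
  have hpp₀ : p₀.Prime := CharP.char_is_prime F₀ p₀
  have : Fact p₀.Prime := ⟨hpp₀⟩
  rw [orderOf_gB_eq_two_iff p₀ hn, gB_sq_eq_one_iff (by omega : 2 ≤ n)] at hγ₀2
  obtain ⟨c, hc⟩ := hγ₀2
  obtain ⟨γ, hrel, hg, ho⟩ := exists_graphAut_of_form hF n hn τ hτq hτ2 hτ1 ι hι S₀ c hc
  exact ⟨S₀, γ, rfl, hrel, hg, ho⟩

/-- **involutory graph automorphisms of `PSU_n(q)`, `n` even, `q` odd**: three classes -/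
theorem psu_graph_classes_even_odd (hodd : Odd q) (hF : Fintype.card F = q ^ 2) {n m : ℕ}
    (hm : 2 ≤ m) (hnm : n = 2 * m) (F₀ : Type*) [Field F₀] [Fintype F₀]
    (hF₀ : Fintype.card F₀ = q) :
    ∃ (γ₁ γ₂ γ₃ : MulAut (Cfsg.PSU n F q)) (a b : F₀),
      (∀ z₁ z₂ : F₀, z₁ ^ 2 + a * z₁ * z₂ + b * z₂ ^ 2 = 0 → z₁ = 0 ∧ z₂ = 0) ∧
      Cfsg.IsGraphAutClassPSU γ₁ ∧ orderOf γ₁ = 2 ∧ Cfsg.IsGraphAutClassPSU γ₂ ∧ orderOf γ₂ = 2 ∧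
      Cfsg.IsGraphAutClassPSU γ₃ ∧ orderOf γ₃ = 2 ∧
      ¬ Cfsg.IsConjUnder (Cfsg.inndiagPSU n F q) γ₁ γ₂ ∧
      ¬ Cfsg.IsConjUnder (Cfsg.inndiagPSU n F q) γ₁ γ₃ ∧
      ¬ Cfsg.IsConjUnder (Cfsg.inndiagPSU n F q) γ₂ γ₃ ∧
      (∀ γ : MulAut (Cfsg.PSU n F q), Cfsg.IsGraphAutClassPSU γ → orderOf γ = 2 →
        Cfsg.IsConjUnder (Cfsg.inndiagPSU n F q) γ₁ γ ∨
          Cfsg.IsConjUnder (Cfsg.inndiagPSU n F q) γ₂ γ ∨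
          Cfsg.IsConjUnder (Cfsg.inndiagPSU n F q) γ₃ γ) ∧
      Nonempty (↥(Cfsg.inndiagPSU n F q ⊓ Subgroup.centralizer {γ₁}) ≃* Cfsg.PGSp m F₀) ∧
      Nonempty (↥(Cfsg.inndiagPSU n F q ⊓ Subgroup.centralizer {γ₂}) ≃*
        Cfsg.PGO F₀ (Cfsg.quadFormPlus m F₀)) ∧
      Nonempty (↥(Cfsg.inndiagPSU n F q ⊓ Subgroup.centralizer {γ₃}) ≃*
        Cfsg.PGO F₀ (Cfsg.quadFormMinus (m - 1) F₀ a b)) := by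
  have hn : 3 ≤ n := by omega
  obtain ⟨τ, ι, hτq, hτ2, hτ1, hι⟩ := exists_setup hF F₀ hF₀
  have hoddF₀ : Odd (Fintype.card F₀) := by rw [hF₀]; exact hodd
  obtain ⟨δ₁, δ₂, δ₃, a, b, hab, hg1, ho1, hg2, ho2, hg3, ho3, hn12, hn13, hn23, hall, ⟨e1⟩,
    ⟨e2⟩, ⟨e3⟩⟩ := graph_classes_even_odd (F := F₀) (n := n) hoddF₀ hm hnm
  obtain ⟨S₁, γ₁, rfl, hr1, hG1, hO1⟩ :=
    exists_graphAut_of_graphAutPSL hF hn τ hτq hτ2 hτ1 ι hι δ₁ hg1 ho1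
  obtain ⟨S₂, γ₂, rfl, hr2, hG2, hO2⟩ :=
    exists_graphAut_of_graphAutPSL hF hn τ hτq hτ2 hτ1 ι hι δ₂ hg2 ho2
  obtain ⟨S₃, γ₃, rfl, hr3, hG3, hO3⟩ :=
    exists_graphAut_of_graphAutPSL hF hn τ hτq hτ2 hτ1 ι hι δ₃ hg3 ho3
  have hconj : ∀ (γ γ' : MulAut (Cfsg.PSU n F q)) (S S' : GL (Fin n) F₀),
      GraphRel n τ ι γ S → GraphRel n τ ι γ' S' →
      (IsConjUnder (Cfsg.inndiagPSU n F q) γ γ' ↔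
        IsConjUnder (Cfsg.inndiagPSL n F₀) (gB S) (gB S')) :=
    fun γ γ' S S' h h' => graphRel_conj hF n hn τ hτq hτ2 hτ1 ι hι γ γ' S S' h h'
  obtain ⟨c1⟩ := graphRel_cent hF n hn τ hτq hτ2 hτ1 ι hι γ₁ S₁ hr1
  obtain ⟨c2⟩ := graphRel_cent hF n hn τ hτq hτ2 hτ1 ι hι γ₂ S₂ hr2
  obtain ⟨c3⟩ := graphRel_cent hF n hn τ hτq hτ2 hτ1 ι hι γ₃ S₃ hr3
  refine ⟨γ₁, γ₂, γ₃, a, b, hab, hG1, hO1, hG2, hO2, hG3, hO3, ?_, ?_, ?_, ?_, ⟨c1.trans e1⟩,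
    ⟨c2.trans e2⟩, ⟨c3.trans e3⟩⟩
  · rw [hconj γ₁ γ₂ S₁ S₂ hr1 hr2]
    exact hn12
  · rw [hconj γ₁ γ₃ S₁ S₃ hr1 hr3]
    exact hn13
  · rw [hconj γ₂ γ₃ S₂ S₃ hr2 hr3]
    exact hn23
  · intro γ hγ hγ2
    obtain ⟨S₀, hrel, hgr, hord⟩ := exists_graphRel_of_graphAut hF n τ hτq hτ2 hτ1 ι hι γ hγ hγ2
    rw [hconj γ₁ γ S₁ S₀ hr1 hrel, hconj γ₂ γ S₂ S₀ hr2 hrel, hconj γ₃ γ S₃ S₀ hr3 hrel]
    exact hall (gB S₀) hgr hord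

/-- **involutory graph automorphisms of `PSU_n(q)`, `n` even, `q` even**: two classes -/
theorem psu_graph_classes_even_char_two [CharP F 2] (hF : Fintype.card F = q ^ 2) {n m : ℕ}
    (hm : 2 ≤ m) (hnm : n = 2 * m) (F₀ : Type*) [Field F₀] [Fintype F₀]
    (hF₀ : Fintype.card F₀ = q) :
    ∃ (γ₁ γ₃ : MulAut (Cfsg.PSU n F q)) (t : ↥(Matrix.symplecticGroup (Fin m) F₀)),
      Cfsg.IsTransvection (t : Matrix (Fin m ⊕ Fin m) (Fin m ⊕ Fin m) F₀) ∧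
      Cfsg.IsGraphAutClassPSU γ₁ ∧ orderOf γ₁ = 2 ∧ Cfsg.IsGraphAutClassPSU γ₃ ∧ orderOf γ₃ = 2 ∧
      ¬ Cfsg.IsConjUnder (Cfsg.inndiagPSU n F q) γ₁ γ₃ ∧
      (∀ γ : MulAut (Cfsg.PSU n F q), Cfsg.IsGraphAutClassPSU γ → orderOf γ = 2 →
        Cfsg.IsConjUnder (Cfsg.inndiagPSU n F q) γ₁ γ ∨
          Cfsg.IsConjUnder (Cfsg.inndiagPSU n F q) γ₃ γ) ∧
      Nonempty (↥(Cfsg.inndiagPSU n F q ⊓ Subgroup.centralizer {γ₁}) ≃*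
        ↥(Matrix.symplecticGroup (Fin m) F₀)) ∧
      Nonempty (↥(Cfsg.inndiagPSU n F q ⊓ Subgroup.centralizer {γ₃}) ≃*
        ↥(Subgroup.centralizer ({t} : Set ↥(Matrix.symplecticGroup (Fin m) F₀)))) := by
  have hn : 3 ≤ n := by omega
  obtain ⟨τ, ι, hτq, hτ2, hτ1, hι⟩ := exists_setup hF F₀ hF₀
  have hch : CharP F₀ 2 := RingHom.charP ι ι.injective 2
  obtain ⟨δ₁, δ₃, t, ht, hg1, ho1, hg3, ho3, hn13, hall, ⟨e1⟩, ⟨e3⟩⟩ :=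
    graph_classes_even_char_two (F := F₀) (n := n) hm hnm
  obtain ⟨S₁, γ₁, rfl, hr1, hG1, hO1⟩ :=
    exists_graphAut_of_graphAutPSL hF hn τ hτq hτ2 hτ1 ι hι δ₁ hg1 ho1
  obtain ⟨S₃, γ₃, rfl, hr3, hG3, hO3⟩ :=
    exists_graphAut_of_graphAutPSL hF hn τ hτq hτ2 hτ1 ι hι δ₃ hg3 ho3
  have hconj : ∀ (γ γ' : MulAut (Cfsg.PSU n F q)) (S S' : GL (Fin n) F₀),
      GraphRel n τ ι γ S → GraphRel n τ ι γ' S' →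
      (IsConjUnder (Cfsg.inndiagPSU n F q) γ γ' ↔
        IsConjUnder (Cfsg.inndiagPSL n F₀) (gB S) (gB S')) :=
    fun γ γ' S S' h h' => graphRel_conj hF n hn τ hτq hτ2 hτ1 ι hι γ γ' S S' h h'
  obtain ⟨c1⟩ := graphRel_cent hF n hn τ hτq hτ2 hτ1 ι hι γ₁ S₁ hr1
  obtain ⟨c3⟩ := graphRel_cent hF n hn τ hτq hτ2 hτ1 ι hι γ₃ S₃ hr3
  refine ⟨γ₁, γ₃, t, ht, hG1, hO1, hG3, hO3, ?_, ?_, ⟨c1.trans e1⟩, ⟨c3.trans e3⟩⟩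
  · rw [hconj γ₁ γ₃ S₁ S₃ hr1 hr3]
    exact hn13
  · intro γ hγ hγ2
    obtain ⟨S₀, hrel, hgr, hord⟩ := exists_graphRel_of_graphAut hF n τ hτq hτ2 hτ1 ι hι γ hγ hγ2
    rw [hconj γ₁ γ S₁ S₀ hr1 hrel, hconj γ₃ γ S₃ S₀ hr3 hrel]
    exact hall (gB S₀) hgr hord

end evenmain

end Cfsg.Agent.Lib.Helper5.PsuGraph
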